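import Cfsg.Agent.MovedVector.Main

/-!
The moved vector for a normal `p`-subgroup of automorphisms of an elementary abelian group, and of its
group of linear characters.
-/

set_option autoImplicit false
set_option linter.style.haveILetI false

namespace CfsgLib.MovedVector

variable {p q : ℕ} [hp : Fact p.Prime] [hq : Fact q.Prime]

/-- Automorphisms of a group of exponent `q` as linear maps. -/
def autEnd (q : ℕ) (C : Type*) [CommGroup C] [Module (ZMod q) (Additive C)] :
    MulAut C →* Module.End (ZMod q) (Additive C) where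
  toFun σ := (MulEquiv.toAdditive σ).toAddMonoidHom.toZModLinearMap q
  map_one' := LinearMap.ext fun _ => rfl
  map_mul' _ _ := LinearMap.ext fun _ => rfl

theorem exists_moved_mulAut {C : Type*} [CommGroup C] [Finite C] (hC : ∀ c : C, c ^ q = 1) (hp2 : p ≠ 2)
    (hpq : p ≠ q) {H : Type*} [Group H] (φ : H →* MulAut C) (P : Subgroup H) [hPn : P.Normal]
    (hP : IsPGroup p (P.map φ)) {a : H} (ha : a ∈ P) (hφ : φ a ≠ 1) :
    ∃ c : C, ∀ h : H, φ (h * a * h⁻¹) c ≠ c := by
  letI : Module (ZMod q) (Additive C) :=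
    AddCommGroup.zmodModule (n := q) (fun c : Additive C => Additive.toMul.injective
      (show (Additive.toMul c) ^ q = 1 from hC _))
  haveI : Finite (MulAut C) := Finite.of_injective (fun e => (e : C → C)) DFunLike.coe_injective
  haveI : (P.map φ.rangeRestrict).Normal := hPn.map _ φ.rangeRestrict_surjective
  let lin : φ.range →* Module.End (ZMod q) (Additive C) := (autEnd q C).comp φ.range.subtype
  have hP' : IsPGroup p (P.map φ.rangeRestrict) := by
    intro ⟨x, hx⟩
    obtain ⟨y, hy, rfl⟩ := hx
    obtain ⟨j, hj⟩ := hP ⟨φ y, ⟨y, hy, rfl⟩⟩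
    exact ⟨j, Subtype.ext (Subtype.ext (congrArg Subtype.val hj :))⟩
  obtain ⟨x, hx⟩ := exists_moved (k := ZMod q) (V := Additive C) (p := p)
    (fun h => hpq (((Nat.prime_dvd_prime_iff_eq hq.out hp.out).mp
      ((ZMod.natCast_eq_zero_iff p q).mp h)).symm)) hp2 lin (P.map φ.rangeRestrict) hP'
    (a := φ.rangeRestrict a) ⟨a, ha, rfl⟩ (fun e => hφ (MulEquiv.ext fun c =>
      congrArg Additive.toMul (LinearMap.congr_fun e (Additive.ofMul c))))
  refine ⟨Additive.toMul x, fun h hh => hx (φ.rangeRestrict h) ?_⟩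
  refine Additive.toMul.injective ?_
  show (φ.rangeRestrict h * φ.rangeRestrict a * (φ.rangeRestrict h)⁻¹ : φ.range).1 (Additive.toMul x) = _
  rw [← map_inv, ← map_mul, ← map_mul]
  exact hh

end CfsgLib.MovedVector
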