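import Mathlib

/-!
Fixed spaces of coprime abelian groups of linear maps.
-/

set_option autoImplicit false
set_option linter.style.haveILetI false

namespace CfsgLib.MovedVector

variable {k V : Type*} [Field k] [AddCommGroup V] [Module k V] {H : Type*} [Group H]

/-- The common fixed space of a subgroup. -/
def fixSpace (ρ : H →* Module.End k V) (K : Subgroup H) : Submodule k V where
  carrier := {v | ∀ x ∈ K, ρ x v = v}
  zero_mem' := fun x _ => map_zero _
  add_mem' := fun {a b} ha hb x hx => by rw [map_add, ha x hx, hb x hx]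
  smul_mem' := fun c {a} ha x hx => by rw [map_smul, ha x hx]

theorem mem_fixSpace {ρ : H →* Module.End k V} {K : Subgroup H} {v : V} :
    v ∈ fixSpace ρ K ↔ ∀ x ∈ K, ρ x v = v := Iff.rfl

theorem apply_inv_apply (ρ : H →* Module.End k V) (g : H) (v : V) : ρ g⁻¹ (ρ g v) = v := by
  rw [← Module.End.mul_apply, ← map_mul, inv_mul_cancel, map_one, Module.End.one_apply]

theorem apply_apply_inv (ρ : H →* Module.End k V) (g : H) (v : V) : ρ g (ρ g⁻¹ v) = v := by
  rw [← Module.End.mul_apply, ← map_mul, mul_inv_cancel, map_one, Module.End.one_apply]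

theorem apply_injective (ρ : H →* Module.End k V) (g : H) : Function.Injective (ρ g) :=
  fun a b h => by rw [← apply_inv_apply ρ g a, h, apply_inv_apply]

/-- The fixed space moves with conjugation. -/
theorem apply_mem_fixSpace {ρ : H →* Module.End k V} {K L : Subgroup H} {g : H}
    (h : ∀ x ∈ L, g⁻¹ * x * g ∈ K) {v : V} (hv : v ∈ fixSpace ρ K) : ρ g v ∈ fixSpace ρ L := by
  intro x hx
  rw [← Module.End.mul_apply, ← map_mul, show x * g = g * (g⁻¹ * x * g) by group, map_mul,
    Module.End.mul_apply, hv _ (h x hx)]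

variable [Finite H]

/-- The norm of a subgroup. -/
noncomputable def normMap (ρ : H →* Module.End k V) (K : Subgroup H) : Module.End k V :=
  haveI := Fintype.ofFinite K
  ∑ x : K, ρ x

theorem normMap_apply (ρ : H →* Module.End k V) (K : Subgroup H) [Fintype K] (v : V) :
    normMap ρ K v = ∑ x : K, ρ x v := by
  simp only [normMap, LinearMap.sum_apply]
  convert rfl

theorem normMap_mem_fixSpace (ρ : H →* Module.End k V) (K : Subgroup H) (v : V) :
    normMap ρ K v ∈ fixSpace ρ K := by
  haveI := Fintype.ofFinite K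
  intro x hx
  rw [normMap_apply, map_sum]
  refine Fintype.sum_equiv (Equiv.mulLeft (⟨x, hx⟩ : K)) _ _ fun y => ?_
  rw [← Module.End.mul_apply, ← map_mul]
  rfl

theorem normMap_of_fixed {ρ : H →* Module.End k V} {K : Subgroup H} {v : V} (hv : v ∈ fixSpace ρ K) :
    normMap ρ K v = (Nat.card K) • v := by
  haveI := Fintype.ofFinite K
  rw [normMap_apply, Finset.sum_congr rfl (fun (x : K) _ => hv x x.2), Finset.sum_const, Finset.card_univ,
    Nat.card_eq_fintype_card]

theorem apply_normMap_of_commute {ρ : H →* Module.End k V} {K : Subgroup H} {g : H}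
    (h : ∀ x ∈ K, g * x = x * g) (v : V) : ρ g (normMap ρ K v) = normMap ρ K (ρ g v) := by
  haveI := Fintype.ofFinite K
  rw [normMap_apply, normMap_apply, map_sum]
  refine Finset.sum_congr rfl fun x _ => ?_
  rw [← Module.End.mul_apply, ← map_mul, ← Module.End.mul_apply, ← map_mul, h x x.2]

variable {p : ℕ} [hp : Fact p.Prime]

omit [Finite H] in
theorem eq_zero_of_nsmul {K : Subgroup H} (hK : IsPGroup p K) [Finite K] (hk : (p : k) ≠ 0) {v : V}
    (h : (Nat.card K) • v = 0) : v = 0 := by
  obtain ⟨n, hn⟩ := IsPGroup.iff_card.mp hK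
  rw [hn, ← Nat.cast_smul_eq_nsmul k, smul_eq_zero] at h
  exact h.resolve_left (by rw [Nat.cast_pow]; exact pow_ne_zero _ hk)

omit [Finite H] in
/-- Two commuting elements of order `p` with no fixed vectors other than zero in their group force `V = 0`. -/
theorem eq_zero_of_fpf_pair (hk : (p : k) ≠ 0) (ρ : H →* Module.End k V) {b c : H} (hbc : b * c = c * b)
    (hb : orderOf b = p) (hc : orderOf c = p) (hne : b ∉ Subgroup.zpowers c)
    (hfix : ∀ x ∈ Subgroup.closure ({b, c} : Set H), x ≠ 1 → ∀ v, ρ x v = v → v = 0) (v : V) : v = 0 := by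
  have hbm : b ∈ Subgroup.closure ({b, c} : Set H) := Subgroup.subset_closure (by simp)
  have hcm : c ∈ Subgroup.closure ({b, c} : Set H) := Subgroup.subset_closure (by simp)
  have hcomm : Commute b c := hbc
  have hc1 : c ≠ 1 := fun h => hne (by
    exfalso
    rw [h, orderOf_one] at hc
    exact hp.out.ne_one hc.symm)
  have hj : ∀ j : ℕ, ∑ i ∈ Finset.range p, ρ ((b * c ^ j) ^ i) v = 0 := by
    intro j
    have hx1 : b * c ^ j ≠ 1 := fun h => hne (by
      rw [eq_inv_of_mul_eq_one_left h]
      exact inv_mem (pow_mem (Subgroup.mem_zpowers c) j))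
    refine hfix _ (mul_mem hbm (pow_mem hcm j)) hx1 _ ?_
    rw [map_sum]
    have h1 : (b * c ^ j) ^ p = 1 := by
      rw [(hcomm.pow_right j).mul_pow, ← hb, pow_orderOf_eq_one, one_mul, hb, ← pow_mul, mul_comm, pow_mul, ← hc,
        pow_orderOf_eq_one, one_pow]
    have h2 : ∀ i, ρ (b * c ^ j) (ρ ((b * c ^ j) ^ i) v) = ρ ((b * c ^ j) ^ (i + 1)) v := fun i => by
      rw [← Module.End.mul_apply, ← map_mul, ← pow_succ']
    rw [Finset.sum_congr rfl fun i _ => h2 i]
    have h3 := Finset.sum_range_succ' (fun i => ρ ((b * c ^ j) ^ i) v) p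
    rw [Finset.sum_range_succ, h1, pow_zero] at h3
    exact (add_right_cancel h3).symm
  have hcsum : ∀ m : ℕ, ¬ p ∣ m → ∑ j ∈ Finset.range p, ρ ((c ^ m) ^ j) v = 0 := by
    intro m hm
    refine hfix (c ^ m) (pow_mem hcm m) (fun h => hm ?_) _ ?_
    · rw [← hc]; exact orderOf_dvd_of_pow_eq_one h
    rw [map_sum]
    have h2 : ∀ i, ρ (c ^ m) (ρ ((c ^ m) ^ i) v) = ρ ((c ^ m) ^ (i + 1)) v := fun i => by
      rw [← Module.End.mul_apply, ← map_mul, ← pow_succ']
    rw [Finset.sum_congr rfl fun i _ => h2 i]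
    have h1 : (c ^ m) ^ p = 1 := by rw [← pow_mul, mul_comm, pow_mul, ← hc, pow_orderOf_eq_one, one_pow]
    have h3 := Finset.sum_range_succ' (fun i => ρ ((c ^ m) ^ i) v) p
    rw [Finset.sum_range_succ, h1, pow_zero] at h3
    exact (add_right_cancel h3).symm
  have htot : ∑ i ∈ Finset.range p, ∑ j ∈ Finset.range p, ρ ((b * c ^ j) ^ i) v = 0 := by
    rw [Finset.sum_comm]
    exact Finset.sum_eq_zero fun j _ => hj j
  rw [Finset.sum_eq_single_of_mem 0 (Finset.mem_range.mpr hp.out.pos)] at htot
  · simp only [pow_zero, map_one, Module.End.one_apply, Finset.sum_const, Finset.card_range] at htot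
    rw [← Nat.cast_smul_eq_nsmul k, smul_eq_zero] at htot
    exact htot.resolve_left hk
  intro i hi hi0
  have hin : ¬ p ∣ i := fun h => by
    have := Nat.le_of_dvd (Nat.pos_of_ne_zero hi0) h
    have := Finset.mem_range.mp hi
    omega
  have h4 : ∀ j, ρ ((b * c ^ j) ^ i) v = ρ (b ^ i) (ρ ((c ^ i) ^ j) v) := fun j => by
    rw [← Module.End.mul_apply, ← map_mul, (hcomm.pow_right j).mul_pow, ← pow_mul, ← pow_mul, mul_comm i j]
  rw [Finset.sum_congr rfl fun j _ => h4 j, ← map_sum, hcsum i hin, map_zero]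

omit [Finite H] hp in
/-- The conjugates of the fixed space of `a` by powers of `t` are independent when `[t, a]` is central and
fixed-point-free. -/
theorem card_fixed_pow_le [Finite V] (hk : (p : k) ≠ 0) (ρ : H →* Module.End k V) {a t z : H}
    (hz : z ^ p = 1) (hta : t * a * t⁻¹ = a * z) (haz : a * z = z * a) (htz : t * z = z * t)
    (hfix : ∀ m : ℕ, ¬ p ∣ m → ∀ v, ρ (z ^ m) v = v → v = 0) :
    Nat.card {v : V // ρ a v = v} ^ p ≤ Nat.card V := by
  classical
  have hconj : ∀ i : ℕ, t ^ i * a * (t ^ i)⁻¹ = a * z ^ i := by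
    intro i
    induction i with
    | zero => simp
    | succ i ih =>
      have e : t * (a * z ^ i) * t⁻¹ = (t * a * t⁻¹) * (t * z ^ i * t⁻¹) := by group
      have e2 : t * z ^ i * t⁻¹ = z ^ i := by
        rw [(Commute.pow_right (show Commute t z from htz) i).eq, mul_inv_cancel_right]
      calc t ^ (i + 1) * a * (t ^ (i + 1))⁻¹ = t * (t ^ i * a * (t ^ i)⁻¹) * t⁻¹ := by
            rw [pow_succ']; group
        _ = a * z ^ (i + 1) := by rw [ih, e, hta, e2, mul_assoc, ← pow_succ']
  have hfixed : ∀ i : ℕ, ∀ v, ρ a v = v → ρ (a * z ^ i) (ρ (t ^ i) v) = ρ (t ^ i) v := by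
    intro i v hv
    rw [← Module.End.mul_apply, ← map_mul, ← hconj, inv_mul_cancel_right, map_mul, Module.End.mul_apply, hv]
  let f : (Fin p → {v : V // ρ a v = v}) → V := fun c => ∑ i : Fin p, ρ (t ^ (i : ℕ)) (c i : V)
  have key : ∀ (j : Fin p) (c : Fin p → V), (∀ i : Fin p, ρ a (c i) = c i) →
      ∑ n ∈ Finset.range p, ρ ((a * z ^ (j : ℕ)) ^ n) (∑ i : Fin p, ρ (t ^ (i : ℕ)) (c i)) =
        p • ρ (t ^ (j : ℕ)) (c j) := by
    intro j c hc
    simp only [map_sum]
    rw [Finset.sum_comm, Finset.sum_eq_single j]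
    · rw [Finset.sum_congr rfl (g := fun _ => ρ (t ^ (j : ℕ)) (c j)), Finset.sum_const, Finset.card_range]
      intro n hn
      clear hn
      induction n with
      | zero => rw [pow_zero, map_one, Module.End.one_apply]
      | succ n ih => rw [pow_succ', map_mul, Module.End.mul_apply, ih, hfixed _ _ (hc j)]
    · intro i _ hij
      set w := ρ (t ^ (i : ℕ)) (c i) with hw
      set m := (j : ℕ) + p - (i : ℕ) with hm
      have hpm : ¬ p ∣ m := by
        have h1 := i.2
        have h2 := j.2
        intro hd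
        rcases lt_or_gt_of_ne (fun h => hij (Fin.ext h)) with hlt | hgt
        · have h3 : m = p + ((j : ℕ) - i) := by omega
          rw [h3, Nat.dvd_add_right dvd_rfl] at hd
          have := Nat.le_of_dvd (by omega) hd
          omega
        · have := Nat.le_of_dvd (by omega) hd
          omega
      have hzi : ∀ n : ℕ, (a * z ^ (j : ℕ)) ^ n = (z ^ m) ^ n * (a * z ^ (i : ℕ)) ^ n := by
        intro n
        have hc1 : Commute (z ^ m) (a * z ^ (i : ℕ)) :=
          Commute.mul_right (Commute.pow_left (show Commute z a from haz.symm) m) (Commute.pow_pow_self z m i)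
        rw [← hc1.mul_pow]
        congr 1
        have h1 := i.2
        have h2 : z ^ (j : ℕ) = z ^ m * z ^ (i : ℕ) := by
          rw [← pow_add, show m + (i : ℕ) = (j : ℕ) + p by omega, pow_add, hz, mul_one]
        rw [h2, ← mul_assoc, ← mul_assoc, (Commute.pow_left (show Commute z a from haz.symm) m).eq]
      have hzw : ∀ n : ℕ, ρ ((a * z ^ (j : ℕ)) ^ n) w = ρ ((z ^ m) ^ n) w := by
        intro n
        rw [hzi, map_mul, Module.End.mul_apply]
        congr 1
        induction n with
        | zero => rw [pow_zero, map_one, Module.End.one_apply]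
        | succ n ih => rw [pow_succ', map_mul, Module.End.mul_apply, ih, hw, hfixed _ _ (hc i)]
      rw [Finset.sum_congr rfl fun n _ => hzw n]
      refine hfix m hpm _ ?_
      rw [map_sum]
      have h2 : ∀ n, ρ (z ^ m) (ρ ((z ^ m) ^ n) w) = ρ ((z ^ m) ^ (n + 1)) w := fun n => by
        rw [← Module.End.mul_apply, ← map_mul, ← pow_succ']
      rw [Finset.sum_congr rfl fun n _ => h2 n]
      have h1 : (z ^ m) ^ p = 1 := by rw [← pow_mul, mul_comm, pow_mul, hz, one_pow]
      have h3 := Finset.sum_range_succ' (fun n => ρ ((z ^ m) ^ n) w) p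
      rw [Finset.sum_range_succ, h1, pow_zero] at h3
      exact (add_right_cancel h3).symm
    · exact fun h => absurd (Finset.mem_univ j) h
  have hinj : Function.Injective f := by
    intro c c' h
    funext j
    refine Subtype.ext (apply_injective ρ (t ^ (j : ℕ)) ?_)
    have h1 := key j (fun i => (c i : V)) (fun i => (c i).2)
    have h2 := key j (fun i => (c' i : V)) (fun i => (c' i).2)
    rw [show (∑ i : Fin p, ρ (t ^ (i : ℕ)) (c i : V)) = ∑ i : Fin p, ρ (t ^ (i : ℕ)) (c' i : V) from h, h2] at h1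
    rw [← sub_eq_zero, ← map_sub]
    have h3 : (p : k) • (ρ (t ^ (j : ℕ)) ((c j : V) - c' j)) = 0 := by
      rw [Nat.cast_smul_eq_nsmul, map_sub, smul_sub, h1, sub_self]
    exact (smul_eq_zero.mp h3).resolve_left hk
  have h := Nat.card_le_card_of_injective f hinj
  rwa [Nat.card_fun, Nat.card_eq_fintype_card (α := Fin p), Fintype.card_fin] at h

end CfsgLib.MovedVector
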