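import Mathlib

/-!
A `p`-group, `p` odd, has a subset of the underlying set whose setwise stabiliser acts trivially.
-/

set_option autoImplicit false
set_option linter.style.haveILetI false

namespace CfsgLib.MovedVector

variable {P : Type*} [Group P] [Finite P] {ι : Type*} [MulAction P ι] [DecidableEq ι] {p : ℕ}
  [hp : Fact p.Prime]

theorem exists_subset_aux (hP : IsPGroup p P) (hp2 : p ≠ 2) (n : ℕ) : ∀ (M : Subgroup P) (O : Finset ι),
    O.card ≤ n → (∀ m ∈ M, ∀ i ∈ O, m • i ∈ O) →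
      ∃ S ⊆ O, ∀ m ∈ M, (∀ i ∈ S, m • i ∈ S) → ∀ i ∈ O, m • i = i := by
  classical
  induction n with
  | zero =>
    intro M O hn _
    refine ⟨∅, Finset.empty_subset _, fun m _ _ i hi => ?_⟩
    rw [Finset.card_eq_zero.mp (Nat.le_zero.mp hn)] at hi
    simp at hi
  | succ n ih =>
  intro M O hn hinv
  haveI : Fintype P := Fintype.ofFinite P
  rcases O.eq_empty_or_nonempty with rfl | ⟨i₀, hi₀⟩
  · exact ⟨∅, Finset.empty_subset _, fun m _ _ i hi => by simp at hi⟩
  set O₁ := O.filter (fun i => ∃ m ∈ M, m • i₀ = i) with hO₁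
  by_cases htr : O₁ = O
  swap
  · have h1 : O₁.card < O.card := Finset.card_lt_card ((Finset.filter_subset _ _).ssubset_of_ne htr)
    have h2 : (O \ O₁).card < O.card := by
      refine Finset.card_lt_card ⟨Finset.sdiff_subset, fun h => ?_⟩
      have := h hi₀
      rw [Finset.mem_sdiff] at this
      exact this.2 (Finset.mem_filter.mpr ⟨hi₀, 1, one_mem _, one_smul _ _⟩)
    have hinv1 : ∀ m ∈ M, ∀ i ∈ O₁, m • i ∈ O₁ := by
      intro m hm i hi
      obtain ⟨hiO, m', hm', rfl⟩ := Finset.mem_filter.mp hi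
      exact Finset.mem_filter.mpr ⟨hinv m hm _ hiO, m * m', mul_mem hm hm', mul_smul _ _ _⟩
    have hinv2 : ∀ m ∈ M, ∀ i ∈ O \ O₁, m • i ∈ O \ O₁ := by
      intro m hm i hi
      rw [Finset.mem_sdiff] at hi ⊢
      refine ⟨hinv m hm i hi.1, fun h => hi.2 ?_⟩
      have := hinv1 m⁻¹ (inv_mem hm) _ h
      rwa [inv_smul_smul] at this
    obtain ⟨S₁, hS₁, h₁⟩ := ih M O₁ (by omega) hinv1
    obtain ⟨S₂, hS₂, h₂⟩ := ih M (O \ O₁) (by omega) hinv2
    refine ⟨S₁ ∪ S₂, Finset.union_subset (hS₁.trans (Finset.filter_subset _ _))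
      (hS₂.trans Finset.sdiff_subset), fun m hm hstab i hi => ?_⟩
    have e1 : ∀ j ∈ S₁, m • j ∈ S₁ := fun j hj => by
      rcases Finset.mem_union.mp (hstab j (Finset.mem_union_left _ hj)) with h | h
      · exact h
      · exact absurd (hinv1 m hm j (hS₁ hj)) (Finset.mem_sdiff.mp (hS₂ h)).2
    have e2 : ∀ j ∈ S₂, m • j ∈ S₂ := fun j hj => by
      rcases Finset.mem_union.mp (hstab j (Finset.mem_union_right _ hj)) with h | h
      · exact absurd (hS₁ h) (Finset.mem_sdiff.mp (hinv2 m hm j (hS₂ hj))).2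
      · exact h
    by_cases hi1 : i ∈ O₁
    · exact h₁ m hm e1 i hi1
    · exact h₂ m hm e2 i (Finset.mem_sdiff.mpr ⟨hi, hi1⟩)
  have htrans : ∀ i ∈ O, ∃ m ∈ M, m • i₀ = i := fun i hi => by
    rw [← htr] at hi
    exact (Finset.mem_filter.mp hi).2
  set St : Subgroup M := MulAction.stabilizer M i₀ with hSt
  by_cases hSt' : St = ⊤
  · refine ⟨∅, Finset.empty_subset _, fun m hm _ i hi => ?_⟩
    obtain ⟨m', hm', rfl⟩ := htrans i hi
    have e : ∀ y : M, (y : P) • i₀ = i₀ := fun y => by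
      have : y ∈ St := hSt' ▸ Subgroup.mem_top y
      exact this
    rw [e ⟨m', hm'⟩, e ⟨m, hm⟩]
  obtain ⟨L₀, hL₀, hStL⟩ := (eq_top_or_exists_le_coatom St).resolve_left hSt'
  haveI : Group.IsNilpotent M := (hP.to_subgroup M).isNilpotent
  haveI : L₀.Normal := Subgroup.NormalizerCondition.normal_of_coatom L₀ Group.normalizerCondition_of_isNilpotent hL₀
  set L : Subgroup P := L₀.map M.subtype with hL
  have hLM : L ≤ M := Subgroup.map_subtype_le L₀
  set O₀ := O.filter (fun i => ∃ l ∈ L, l • i₀ = i) with hO₀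
  have hO₀mem : ∀ i, i ∈ O₀ ↔ ∃ l ∈ L, l • i₀ = i := fun i => by
    rw [hO₀, Finset.mem_filter]
    exact ⟨fun h => h.2, fun h => ⟨by obtain ⟨l, hl, rfl⟩ := h; exact hinv l (hLM hl) _ hi₀, h⟩⟩
  have hcos : ∀ m : M, ((m : P) • i₀) ∈ O₀ → m ∈ L₀ := by
    intro m hm
    obtain ⟨_, ⟨l, hl, rfl⟩, he⟩ := (hO₀mem _).mp hm
    have h : l⁻¹ * m ∈ St := by
      rw [hSt, MulAction.mem_stabilizer_iff]
      show ((l : P)⁻¹ * (m : P)) • i₀ = i₀
      rw [mul_smul, ← he]
      exact inv_smul_smul _ _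
    have := mul_mem hl (hStL h)
    rwa [mul_inv_cancel_left] at this
  have hlt : O₀.card ≤ n := by
    have : O₀.card < O.card := by
      refine Finset.card_lt_card ⟨Finset.filter_subset _ _, fun h => hL₀.1 (top_le_iff.mp fun m _ => ?_)⟩
      exact hcos m (h (hinv m m.2 _ hi₀))
    omega
  have hinv0 : ∀ l ∈ L, ∀ i ∈ O₀, l • i ∈ O₀ := by
    intro l hl i hi
    obtain ⟨l', hl', rfl⟩ := (hO₀mem i).mp hi
    exact (hO₀mem _).mpr ⟨l * l', mul_mem hl hl', mul_smul _ _ _⟩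
  obtain ⟨A, hA, hAfix⟩ := ih L O₀ hlt hinv0
  have hodd : Odd O₀.card := by
    have h1 : O₀.card = Nat.card (MulAction.orbit L i₀) := by
      rw [← Nat.card_eq_finsetCard]
      refine Nat.card_congr (Equiv.subtypeEquivRight fun i => ?_)
      rw [hO₀mem]
      exact ⟨fun ⟨l, hl, e⟩ => ⟨⟨l, hl⟩, e⟩, fun ⟨⟨l, hl⟩, e⟩ => ⟨l, hl, e⟩⟩
    have h2 : O₀.card ∣ Nat.card L := by
      rw [h1, Nat.card_coe_set_eq, ← MulAction.index_stabilizer]
      exact Subgroup.index_dvd_card _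
    obtain ⟨k, hk⟩ := IsPGroup.iff_card.mp (hP.to_subgroup L)
    exact (hk ▸ (hp.out.odd_of_ne_two hp2).pow).of_dvd_nat h2
  -- the pieces
  let r : M ⧸ L₀ → P := fun c => if c = 1 then 1 else (c.out : M)
  have hrM : ∀ c, r c ∈ M := fun c => by
    by_cases hc : c = 1
    · simp [r, hc]
    · simp only [r, hc, if_false]; exact (c.out : M).2
  have hr : ∀ c, ((⟨r c, hrM c⟩ : M) : M ⧸ L₀) = c := fun c => by
    by_cases hc : c = 1
    · have e : (⟨r c, hrM c⟩ : M) = 1 := Subtype.ext (by simp [r, hc])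
      rw [e, hc]; rfl
    · have e : (⟨r c, hrM c⟩ : M) = c.out := Subtype.ext (by simp [r, hc])
      rw [e]; exact QuotientGroup.out_eq' c
  let part : M ⧸ L₀ → Finset ι := fun c => if c = 1 then A else O₀ \ A
  have hpart : ∀ c, part c ⊆ O₀ := fun c => by
    by_cases hc : c = 1
    · simp only [part, hc, if_true]; exact hA
    · simp only [part, hc, if_false]; exact Finset.sdiff_subset
  haveI : Fintype (M ⧸ L₀) := Fintype.ofFinite _
  refine ⟨Finset.univ.biUnion fun c => (part c).image (r c • ·), ?_, ?_⟩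
  · intro i hi
    obtain ⟨c, -, hi⟩ := Finset.mem_biUnion.mp hi
    obtain ⟨j, hj, rfl⟩ := Finset.mem_image.mp hi
    exact hinv _ (hrM c) _ (Finset.filter_subset _ _ (hpart c hj))
  intro m hm hstab
  set mM : M := ⟨m, hm⟩ with hmM
  -- `m` maps the piece at `c` into the piece at `m c`
  have key : ∀ c, ∀ j ∈ part c, ((r ((mM : M ⧸ L₀) * c))⁻¹ * m * r c) • j ∈ part ((mM : M ⧸ L₀) * c) := by
    intro c j hj
    have h := hstab _ (Finset.mem_biUnion.mpr ⟨c, Finset.mem_univ c, Finset.mem_image.mpr ⟨j, hj, rfl⟩⟩)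
    obtain ⟨d, -, hd⟩ := Finset.mem_biUnion.mp h
    obtain ⟨j', hj', e⟩ := Finset.mem_image.mp hd
    obtain ⟨_, ⟨l, hl, rfl⟩, rfl⟩ := (hO₀mem j).mp (hpart c hj)
    obtain ⟨_, ⟨l', hl', rfl⟩, rfl⟩ := (hO₀mem j').mp (hpart d hj')
    have hst : (⟨r d, hrM d⟩ * l' : M)⁻¹ * (mM * ⟨r c, hrM c⟩ * l) ∈ L₀ := by
      refine hStL (MulAction.mem_stabilizer_iff.mpr ?_)
      have e' : r d • ((l' : P) • i₀) = m • r c • ((l : P) • i₀) := e
      show ((r d * (l' : P))⁻¹ * (m * r c * (l : P))) • i₀ = i₀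
      rw [mul_smul, inv_smul_eq_iff, mul_smul, mul_smul, mul_smul, e']
    have hdc : d = (mM : M ⧸ L₀) * c := by
      have h1 := QuotientGroup.eq.mpr hst
      rw [QuotientGroup.mk_mul, QuotientGroup.mk_mul, QuotientGroup.mk_mul, hr, hr,
        (QuotientGroup.eq_one_iff l').mpr hl', (QuotientGroup.eq_one_iff l).mpr hl, mul_one, mul_one] at h1
      exact h1
    subst hdc
    rw [mul_smul, mul_smul]
    have e' : r ((mM : M ⧸ L₀) * c) • ((l' : P) • i₀) = m • r c • ((l : P) • i₀) := e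
    show (r ((mM : M ⧸ L₀) * c))⁻¹ • m • r c • ((l : P) • i₀) ∈ _
    rw [← e', inv_smul_smul]
    exact hj'
  have hinj : ∀ g : P, Function.Injective (fun j : ι => g • j) := fun g => MulAction.injective g
  have hmL : mM ∈ L₀ := by
    by_contra hne
    have hc : (mM : M ⧸ L₀) ≠ 1 := fun h => hne ((QuotientGroup.eq_one_iff _).mp h)
    have hsum := Finset.card_sdiff_add_card_eq_card hA
    have h1 : A.card ≤ (O₀ \ A).card := by
      refine Finset.card_le_card_of_injOn (fun j => ((r ((mM : M ⧸ L₀) * 1))⁻¹ * m * r 1) • j) (fun j hj => ?_)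
        (hinj _).injOn
      have := key 1 j (by simp only [part, if_true]; exact hj)
      simp only [part, mul_one, hc, if_false] at this
      rw [mul_one]
      exact this
    have h2 : (O₀ \ A).card ≤ A.card := by
      set c₀ := ((mM : M ⧸ L₀))⁻¹ with hc₀
      have hc0 : c₀ ≠ 1 := inv_ne_one.mpr hc
      refine Finset.card_le_card_of_injOn (fun j => ((r ((mM : M ⧸ L₀) * c₀))⁻¹ * m * r c₀) • j) (fun j hj => ?_)
        (hinj _).injOn
      have := key c₀ j (by simp only [part, hc0, if_false]; exact hj)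
      have e : (mM : M ⧸ L₀) * c₀ = 1 := mul_inv_cancel _
      simp only [part, e, if_true] at this
      rw [e]
      exact this
    obtain ⟨t, ht⟩ := hodd
    omega
  have hm1 : ∀ c, (mM : M ⧸ L₀) * c = c := fun c => by
    rw [(QuotientGroup.eq_one_iff _).mpr hmL, one_mul]
  intro i hi
  obtain ⟨m', hm', rfl⟩ := htrans i hi
  set c := ((⟨m', hm'⟩ : M) : M ⧸ L₀) with hcdef
  set y := (r c)⁻¹ * m * r c with hy
  have hyL : y ∈ L := by
    refine ⟨⟨r c, hrM c⟩⁻¹ * mM * ⟨r c, hrM c⟩, ?_, rfl⟩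
    have := (inferInstance : L₀.Normal).conj_mem mM hmL (⟨r c, hrM c⟩⁻¹)
    rwa [inv_inv] at this
  have hyA : ∀ j ∈ A, y • j ∈ A := by
    intro j hj
    have hmaps : ∀ j ∈ part c, y • j ∈ part c := fun j hj => by
      have := key c j hj
      rwa [hm1] at this
    by_cases hc : c = 1
    · simpa [part, hc] using hmaps j (by simpa [part, hc] using hj)
    · by_contra hne
      have hsurj : ((O₀ \ A).image (y • ·)) = O₀ \ A := by
        refine Finset.eq_of_subset_of_card_le ?_ (Finset.card_image_of_injective _ (hinj y)).ge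
        intro z hz
        obtain ⟨j, hj, rfl⟩ := Finset.mem_image.mp hz
        simpa [part, hc] using hmaps j (by simpa [part, hc] using hj)
      have : y • j ∈ (O₀ \ A).image (y • ·) :=
        hsurj.symm ▸ Finset.mem_sdiff.mpr ⟨hinv0 y hyL j (hA hj), hne⟩
      obtain ⟨j', hj', e⟩ := Finset.mem_image.mp this
      rw [hinj y e] at hj'
      exact (Finset.mem_sdiff.mp hj').2 hj
  have hl : ((r c)⁻¹ * m') • i₀ ∈ O₀ := by
    refine (hO₀mem _).mpr ⟨(r c)⁻¹ * m', ⟨(⟨r c, hrM c⟩ : M)⁻¹ * ⟨m', hm'⟩, ?_, rfl⟩, rfl⟩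
    exact QuotientGroup.eq.mp ((hr c).trans hcdef)
  have h := hAfix y hyL hyA _ hl
  rw [hy] at h
  have h2 := congrArg (r c • ·) h
  simpa [smul_smul, mul_assoc] using h2

/-- A finite `p`-group with `p` odd has a subset whose setwise stabiliser fixes every point. -/
theorem exists_subset (hP : IsPGroup p P) (hp2 : p ≠ 2) [Fintype ι] :
    ∃ S : Finset ι, ∀ m : P, (∀ i ∈ S, m • i ∈ S) → ∀ i : ι, m • i = i := by
  obtain ⟨S, -, h⟩ := exists_subset_aux hP hp2 (Fintype.card ι) ⊤ Finset.univ le_rfl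
    (fun _ _ _ _ => Finset.mem_univ _)
  exact ⟨S, fun m hm i => h m (Subgroup.mem_top m) hm i (Finset.mem_univ i)⟩

end CfsgLib.MovedVector
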