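import Cfsg.Agent.MovedVector.Linear
import Cfsg.Agent.SymplecticType.HallTheorem

/-!
A `p`-group of symplectic type, `p` odd, with fixed-point-free centre has a vector moved by all its
elements of order `p`.
-/

set_option autoImplicit false
set_option linter.style.haveILetI false

open scoped commutatorElement
open Polynomial

namespace CfsgLib.MovedVector

variable {p : ℕ} [hp : Fact p.Prime]

/-- The shape of a non-abelian `p`-group without noncyclic abelian characteristic subgroups. -/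
theorem exists_central_commutator {P : Type*} [Group P] [Finite P] (hP : IsPGroup p P) (hp2 : p ≠ 2)
    (hsymp : ∀ A : Subgroup P, A.Characteristic → IsMulCommutative A → IsCyclic A)
    (hna : ¬ ∀ a b : P, a * b = b * a) :
    ∃ z ∈ commutator P, z ≠ 1 ∧ z ^ p = 1 ∧ z ∈ Subgroup.center P ∧
      (∀ a b : P, ⁅a, b⁆ ∈ Subgroup.zpowers z) ∧
      ∀ x ∈ Subgroup.center P, x ^ p = 1 → x ∈ Subgroup.zpowers z := by
  obtain ⟨E, R, hER, htop, hE, hR⟩ := CfsgLib.SymplecticType.hall_decomposition hP hsymp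
  have hRc : IsCyclic R := hR.resolve_right fun h => hp2 h.1
  have hRcomm : ∀ r ∈ R, ∀ r' ∈ R, r * r' = r' * r := fun r hr r' hr' => by
    haveI := hRc
    exact congrArg Subtype.val (IsMulCommutative.is_comm.comm (⟨r, hr⟩ : R) ⟨r', hr'⟩)
  haveI hEn : E.Normal := by
    rw [← Subgroup.normalizer_eq_top_iff, eq_top_iff, ← htop]
    refine sup_le Subgroup.le_normalizer ?_
    intro r hr
    rw [Subgroup.mem_normalizer_iff]
    intro e
    constructor
    · intro he
      rwa [← hER e he r hr, mul_inv_cancel_right]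
    · intro he
      have h := hER _ he r hr
      have h' : r * e = r * (r * e * r⁻¹) := by rw [← h]; group
      rwa [mul_left_cancel h']
  have hdec : ∀ a : P, ∃ e ∈ E, ∃ r ∈ R, e * r = a := fun a =>
    Subgroup.mem_sup_of_normal_left.mp (htop.ge (Subgroup.mem_top a))
  rcases hE with rfl | hE
  · refine absurd (fun a b => ?_) hna
    obtain ⟨e, he, r, hr, rfl⟩ := hdec a
    obtain ⟨e', he', r', hr', rfl⟩ := hdec b
    rw [Subgroup.mem_bot.mp he, Subgroup.mem_bot.mp he', one_mul, one_mul, hRcomm r hr r' hr']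
  obtain ⟨⟨-, -, hcomm⟩, hcard⟩ := hE
  haveI := isCyclic_of_prime_card hcard
  obtain ⟨zE, hzE⟩ := IsCyclic.exists_generator (α := Subgroup.center E)
  set z : P := ((zE : E) : P) with hzdef
  have hz1 : z ≠ 1 := by
    intro h
    have h1 : zE = 1 := Subtype.ext (Subtype.ext h)
    have h2 : ∀ y : Subgroup.center E, y = 1 := fun y => by
      have := hzE y
      rw [h1, Subgroup.zpowers_one_eq_bot, Subgroup.mem_bot] at this
      exact this
    haveI : Subsingleton (Subgroup.center E) := ⟨fun a b => (h2 a).trans (h2 b).symm⟩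
    rw [Nat.card_eq_one_iff_unique.mpr ⟨inferInstance, ⟨1⟩⟩] at hcard
    exact hp.out.ne_one hcard.symm
  have hzp : z ^ p = 1 := by
    have h : zE ^ p = 1 := by rw [← hcard]; exact pow_card_eq_one'
    exact congrArg (fun y : Subgroup.center E => ((y : E) : P)) h
  have hzc : z ∈ Subgroup.center P := by
    refine Subgroup.mem_center_iff.mpr fun g => ?_
    obtain ⟨e, he, r, hr, rfl⟩ := hdec g
    have h1 : e * z = z * e := congrArg Subtype.val (Subgroup.mem_center_iff.mp zE.2 ⟨e, he⟩)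
    calc e * r * z = e * (r * z) := mul_assoc _ _ _
      _ = e * (z * r) := by rw [hER z (zE : E).2 r hr]
      _ = z * (e * r) := by rw [← mul_assoc, h1, mul_assoc]
  refine ⟨z, ?_, hz1, hzp, hzc, fun a b => ?_, fun x hx hxp => ?_⟩
  · have h : (zE : E) ∈ commutator E := by rw [hcomm]; exact zE.2
    have h2 := Subgroup.mem_map_of_mem E.subtype h
    rw [Subgroup.map_subtype_commutator] at h2
    exact Subgroup.commutator_mono le_top le_top h2
  · obtain ⟨e, he, r, hr, rfl⟩ := hdec a
    obtain ⟨e', he', r', hr', rfl⟩ := hdec b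
    have h1 : ⁅e * r, e' * r'⁆ = ⁅e, e'⁆ := by
      have hr_e' : Commute r e' := (hER e' he' r hr).symm
      have he_r' : Commute e r' := hER e he r' hr'
      have hrr : Commute r r' := hRcomm r hr r' hr'
      have her : Commute e r := hER e he r hr
      have her' : Commute e' r' := hER e' he' r' hr'
      rw [commutatorElement_def, commutatorElement_def]
      calc e * r * (e' * r') * (e * r)⁻¹ * (e' * r')⁻¹
          = e * (r * e') * r' * r⁻¹ * e⁻¹ * r'⁻¹ * e'⁻¹ := by group
        _ = e * e' * (r * r' * r⁻¹) * e⁻¹ * r'⁻¹ * e'⁻¹ := by rw [hr_e'.eq]; group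
        _ = e * e' * (r' * e⁻¹) * r'⁻¹ * e'⁻¹ := by rw [hrr.eq, mul_inv_cancel_right]; group
        _ = e * e' * e⁻¹ * e'⁻¹ := by rw [← he_r'.inv_left.eq]; group
    rw [h1]
    have h2 : (⁅(⟨e, he⟩ : E), (⟨e', he'⟩ : E)⁆ : E) ∈ Subgroup.center E :=
      hcomm ▸ Subgroup.commutator_mem_commutator (Subgroup.mem_top _) (Subgroup.mem_top _)
    obtain ⟨n, hn⟩ := hzE ⟨_, h2⟩
    refine ⟨n, ?_⟩
    exact congrArg (fun y : Subgroup.center E => ((y : E) : P)) hn
  · exact CfsgLib.SymplecticType.mem_zpowers_of_isCyclic (hsymp _ inferInstance inferInstance) hzc hx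
      (by rw [orderOf_eq_prime hzp hz1]; exact hxp)

theorem mul_pow_six_lt {d : ℕ} (hd : 3 ≤ d) : 27 * d ^ 6 < 8 * 16 ^ d := by
  induction d, hd using Nat.le_induction with
  | base => norm_num
  | succ d hd ih =>
    have h3 : (3 * (d + 1)) ^ 6 ≤ (4 * d) ^ 6 := Nat.pow_le_pow_left (by omega) 6
    rw [mul_pow, mul_pow] at h3
    rw [pow_succ 16]
    have e3 : 3 ^ 6 = 729 := by norm_num
    have e4 : 4 ^ 6 = 4096 := by norm_num
    rw [e3, e4] at h3
    omega

theorem bound_false {p d Q cV C : ℕ} (hp3 : 3 ≤ p) (hd : p ≤ d) (hQ : p + 1 ≤ Q) (hV : Q ^ d ≤ cV)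
    (hC : C ^ p ≤ cV) (h : (p - 1) * cV ≤ p * d ^ 2 * C) : False := by
  have hV0 : 0 < cV := lt_of_lt_of_le (Nat.pow_pos (by omega)) hV
  have h1 : ((p - 1) * cV) ^ p ≤ (p * d ^ 2) ^ p * cV :=
    le_trans (Nat.pow_le_pow_left h p) (by rw [mul_pow (p * d ^ 2)]; exact Nat.mul_le_mul_left _ hC)
  rw [mul_pow] at h1
  have hcV : cV ^ p = cV ^ (p - 1) * cV := by rw [← pow_succ, Nat.sub_add_cancel (by omega : 1 ≤ p)]
  rw [hcV, ← mul_assoc] at h1
  have h2 : (p - 1) ^ p * cV ^ (p - 1) ≤ (p * d ^ 2) ^ p := Nat.le_of_mul_le_mul_right h1 hV0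
  have h3 : (2 * p) ^ p * cV ^ (p - 1) ≤ 3 ^ p * (p * d ^ 2) ^ p := by
    refine le_trans (Nat.mul_le_mul_right _ (Nat.pow_le_pow_left (show 2 * p ≤ 3 * (p - 1) by omega) p)) ?_
    rw [mul_pow, mul_assoc]
    exact Nat.mul_le_mul_left _ h2
  rw [mul_pow, mul_pow p, mul_assoc, mul_left_comm (3 ^ p), mul_left_comm (2 ^ p)] at h3
  have h4 : 2 ^ p * cV ^ (p - 1) ≤ 3 ^ p * (d ^ 2) ^ p := Nat.le_of_mul_le_mul_left h3 (Nat.pow_pos (by omega))
  have h5 := Nat.pow_le_pow_left h4 3
  have h6 : 16 ^ (d * p) ≤ (cV ^ (p - 1)) ^ 3 := by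
    have h4Q : 4 ^ d ≤ cV := le_trans (Nat.pow_le_pow_left (by omega) d) hV
    refine le_trans ?_ (le_trans (Nat.pow_le_pow_right hV0 (show 2 * p ≤ (p - 1) * 3 by omega)) (by rw [pow_mul]))
    rw [show (16 : ℕ) = 4 ^ 2 by norm_num, ← pow_mul, show 2 * (d * p) = d * (2 * p) by ring, pow_mul]
    exact Nat.pow_le_pow_left h4Q _
  have h7 : (8 * 16 ^ d) ^ p ≤ (27 * d ^ 6) ^ p := by
    refine le_trans (le_of_eq ?_) (le_trans (Nat.mul_le_mul_left ((2 ^ p) ^ 3) h6) (le_trans (le_of_eq ?_)
      (le_trans h5 (le_of_eq ?_))))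
    · rw [mul_pow, ← pow_mul, ← pow_mul, show (8 : ℕ) = 2 ^ 3 by norm_num, ← pow_mul, mul_comm 3 p]
    · rw [mul_pow]
    · rw [mul_pow, mul_pow, ← pow_mul, ← pow_mul, ← pow_mul, ← pow_mul, show (27 : ℕ) = 3 ^ 3 by norm_num,
        ← pow_mul, mul_comm 3 p, show 2 * (p * 3) = 6 * p by ring]
  exact absurd h7 (not_le.mpr (Nat.pow_lt_pow_left (mul_pow_six_lt (by omega)) (by omega)))

variable {k V : Type*} [Field k] [AddCommGroup V] [Module k V] [Finite V] [Nontrivial V]
  {H : Type*} [Group H] [Finite H]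

omit [Finite H] in
/-- The field bound: the group modulo its centre embeds in a matrix algebra over a field in which a
central element of order `p` is a scalar. -/
theorem exists_field_bound (ρ : H →* Module.End k V) {P : Subgroup H} [Finite P]
    {z : H} (hz1 : z ≠ 1) (hzp : z ^ p = 1) (hzc : ∀ x ∈ P, z * x = x * z)
    (hcomm : ∀ a ∈ P, ∀ b ∈ P, ⁅a, b⁆ ∈ Subgroup.zpowers z)
    (hna : ∃ a ∈ P, ∃ b ∈ P, ⁅a, b⁆ ≠ 1)
    (hzfix : ∀ m : ℕ, ¬ p ∣ m → ∀ v, ρ (z ^ m) v = v → v = 0) :
    ∃ Q d : ℕ, p + 1 ≤ Q ∧ p ≤ d ∧ (Subgroup.center P).index ≤ d ^ 2 ∧ Q ^ d ≤ Nat.card V := by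
  classical
  set T : Module.End k V := ρ z with hT
  have hzero : aeval T ((X : k[X]) ^ p - 1) = 0 := by
    rw [map_sub, map_pow, aeval_X, map_one, hT, ← map_pow, hzp, map_one, sub_self]
  -- an irreducible factor with a kernel
  obtain ⟨f, hf, hfdvd, hker⟩ : ∃ f : k[X], Irreducible f ∧ f ∣ X ^ p - 1 ∧
      LinearMap.ker (aeval T f) ≠ ⊥ := by
    by_contra hcon
    push Not at hcon
    have hinj : ∀ g : k[X], g ≠ 0 → g ∣ X ^ p - 1 → Function.Injective (aeval T g) := by
      intro g
      induction g using UniqueFactorizationMonoid.induction_on_prime with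
      | h₁ => exact fun h => absurd rfl h
      | h₂ u hu =>
        intro _ _
        obtain ⟨c, hc, rfl⟩ := Polynomial.isUnit_iff.mp hu
        intro v w h
        rw [aeval_C, Algebra.algebraMap_eq_smul_one, LinearMap.smul_apply, LinearMap.smul_apply,
          Module.End.one_apply, Module.End.one_apply] at h
        exact smul_right_injective V hc.ne_zero h
      | h₃ g q hg hq ih =>
        intro h0 hd
        rw [map_mul]
        exact (LinearMap.ker_eq_bot.mp (hcon q hq.irreducible ((dvd_mul_right q g).trans hd))).comp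
          (ih hg ((dvd_mul_left g q).trans hd))
    obtain ⟨v, hv⟩ := exists_ne (0 : V)
    exact hv (hinj _ (Polynomial.X_pow_sub_C_ne_zero hp.out.pos (1 : k) |> fun h => by simpa using h) dvd_rfl
      (by rw [hzero, LinearMap.zero_apply, map_zero]))
  let W : Submodule k V := LinearMap.ker (aeval T f)
  haveI : Nontrivial W := Submodule.nontrivial_iff_ne_bot.mpr hker
  have hTW : ∀ g : k[X], ∀ w ∈ W, aeval T g w ∈ W := fun g w hw => by
    show aeval T f (aeval T g w) = 0
    rw [← Module.End.mul_apply, ← map_mul, mul_comm, map_mul, Module.End.mul_apply,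
      show aeval T f w = 0 from hw, map_zero]
  let φ₀ : k[X] →ₐ[k] Module.End k W :=
    AlgHom.ofLinearMap
      { toFun := fun g => (aeval T g).restrict (hTW g)
        map_add' := fun a b => LinearMap.ext fun w => Subtype.ext (by simp)
        map_smul' := fun c a => LinearMap.ext fun w => Subtype.ext (by simp) }
      (LinearMap.ext fun w => Subtype.ext (by simp))
      (fun a b => LinearMap.ext fun w => Subtype.ext (by simp [Module.End.mul_apply]))
  let I : Ideal k[X] := Ideal.span {f}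
  haveI : I.IsMaximal := PrincipalIdealRing.isMaximal_of_irreducible hf
  letI : Field (k[X] ⧸ I) := Ideal.Quotient.field I
  have hI : ∀ g ∈ I, φ₀ g = 0 := by
    intro g hg
    obtain ⟨c, rfl⟩ := Ideal.mem_span_singleton'.mp hg
    refine LinearMap.ext fun w => Subtype.ext ?_
    show aeval T (c * f) w = 0
    rw [map_mul, Module.End.mul_apply, show aeval T f w = 0 from w.2, map_zero]
  let φ : k[X] ⧸ I →+* Module.End k W := Ideal.Quotient.lift I φ₀.toRingHom hI
  letI : Module (k[X] ⧸ I) W := Module.compHom W φ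
  have hφmk : ∀ g (w : W), ((Ideal.Quotient.mk I g) • w : W) = φ₀ g w := fun g w => rfl
  set ζ : k[X] ⧸ I := Ideal.Quotient.mk I X with hζ
  have hζw : ∀ (m : ℕ) (w : W), ((ζ ^ m • w : W) : V) = ρ (z ^ m) (w : V) := by
    intro m w
    rw [hζ, ← map_pow, hφmk]
    show aeval T (X ^ m) (w : V) = _
    rw [map_pow, aeval_X, hT, ← map_pow]
  obtain ⟨w₀, hw₀⟩ := exists_ne (0 : W)
  haveI : Finite (k[X] ⧸ I) := Finite.of_injective (fun c => c • w₀) (smul_left_injective _ hw₀)
  haveI : Module.Finite (k[X] ⧸ I) W := Module.Finite.of_finite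
  have hζ1 : ζ ≠ 1 := by
    intro h
    refine hw₀ (Subtype.ext (hzfix 1 (fun h => hp.out.ne_one (Nat.dvd_one.mp h)) _ ?_))
    rw [← hζw, h, one_pow, one_smul]
  have hζp : ζ ^ p = 1 := by
    have h : ∀ w : W, ζ ^ p • w = (1 : k[X] ⧸ I) • w := fun w => Subtype.ext (by
      rw [hζw, hzp, map_one, one_smul]; rfl)
    exact smul_left_injective _ hw₀ (h w₀)
  have hQ : p + 1 ≤ Nat.card (k[X] ⧸ I) := by
    haveI := Fintype.ofFinite (k[X] ⧸ I)
    obtain ⟨u, hu⟩ := isUnit_iff_ne_zero.mpr (fun h : ζ = 0 => by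
      rw [h, zero_pow hp.out.ne_zero] at hζp; exact zero_ne_one hζp)
    have ho : orderOf u = p := orderOf_eq_prime (Units.ext (by rw [Units.val_pow_eq_pow_val, hu, hζp]; rfl))
      (fun h => hζ1 (by rw [← hu, h, Units.val_one]))
    have h1 : p ∣ Nat.card (k[X] ⧸ I)ˣ := ho ▸ orderOf_dvd_natCard u
    have h2 := Nat.le_of_dvd Nat.card_pos h1
    rw [Nat.card_units] at h2
    have := hp.out.pos
    omega
  -- the elements of `P` as linear maps over the field
  have hcW : ∀ (x : P), ∀ w ∈ W, ρ (x : H) w ∈ W := fun x w hw => by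
    show aeval T f (ρ (x : H) w) = 0
    have hc : Commute T (ρ (x : H)) := by
      show ρ z * ρ x = ρ x * ρ z
      rw [← map_mul, ← map_mul, hzc _ x.2]
    have hc' : ∀ g : k[X], aeval T g * ρ (x : H) = ρ x * aeval T g := fun g => by
      induction g using Polynomial.induction_on' with
      | add a b ha hb => rw [map_add, add_mul, mul_add, ha, hb]
      | monomial n c =>
        rw [aeval_monomial, mul_assoc, (hc.pow_left n).eq, ← mul_assoc, ← mul_assoc, Algebra.commutes]
    rw [← Module.End.mul_apply, hc', Module.End.mul_apply, show aeval T f w = 0 from hw, map_zero]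
  let L : P → (W →ₗ[k[X] ⧸ I] W) := fun x =>
    { toFun := fun w => ⟨ρ (x : H) w, hcW x w w.2⟩
      map_add' := fun a b => Subtype.ext (map_add _ _ _)
      map_smul' := fun c w => by
        obtain ⟨g, rfl⟩ := Ideal.Quotient.mk_surjective c
        refine Subtype.ext ?_
        show ρ (x : H) (aeval T g (w : V)) = aeval T g (ρ (x : H) (w : V))
        have hc : Commute T (ρ (x : H)) := by
          show ρ z * ρ x = ρ x * ρ z
          rw [← map_mul, ← map_mul, hzc _ x.2]
        induction g using Polynomial.induction_on' with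
        | add a b ha hb => rw [map_add, LinearMap.add_apply, map_add, LinearMap.add_apply, ha, hb]
        | monomial n c =>
          simp only [aeval_monomial, Module.algebraMap_end_eq_smul_id, Module.End.mul_apply, LinearMap.smul_apply,
            LinearMap.id_apply, map_smul]
          rw [← Module.End.mul_apply, ← (hc.pow_left n).eq, Module.End.mul_apply] }
  have hLmul : ∀ x y : P, L (x * y) = L x * L y := fun x y => LinearMap.ext fun w => Subtype.ext (by
    show ρ ((x : H) * y) (w : V) = ρ (x : H) (ρ (y : H) (w : V))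
    rw [map_mul, Module.End.mul_apply])
  let L' : P →* Module.End (k[X] ⧸ I) W :=
    { toFun := L
      map_one' := LinearMap.ext fun w => Subtype.ext (by
        show ρ ((1 : P) : H) (w : V) = (w : V)
        rw [OneMemClass.coe_one, map_one, Module.End.one_apply])
      map_mul' := hLmul }
  have hexp : ∀ a b : P, ∃ m : ℕ, ⁅(a : H), (b : H)⁆ = z ^ m ∧ L' ⁅a, b⁆ = (ζ ^ m) • 1 := by
    intro a b
    obtain ⟨m, hm⟩ := (Submonoid.mem_powers_iff _ _).mp
      ((show IsOfFinOrder z from isOfFinOrder_iff_pow_eq_one.mpr ⟨p, hp.out.pos, hzp⟩).mem_powers_iff_mem_zpowers.mpr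
        (hcomm _ a.2 _ b.2))
    refine ⟨m, hm.symm, LinearMap.ext fun w => Subtype.ext ?_⟩
    show ρ ((⁅a, b⁆ : P) : H) (w : V) = ((ζ ^ m • w : W) : V)
    rw [hζw, hm]
    congr 1
  have hcast : ∀ a b : P, ((⁅a, b⁆ : P) : H) = ⁅(a : H), (b : H)⁆ := fun a b => rfl
  set d := Module.finrank (k[X] ⧸ I) W with hd
  have hd0 : 0 < d := Module.finrank_pos
  have hinj1 : ∀ m n : ℕ, ζ ^ m = ζ ^ n → z ^ m = z ^ n := by
    intro m n h
    have h1 := (isOfFinOrder_iff_pow_eq_one.mpr ⟨p, hp.out.pos, hζp⟩).pow_eq_pow_iff_modEq.mp h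
    rw [orderOf_eq_prime hζp hζ1, ← orderOf_eq_prime hzp hz1] at h1
    exact pow_eq_pow_iff_modEq.mpr h1
  refine ⟨Nat.card (k[X] ⧸ I), d, hQ, ?_, ?_, ?_⟩
  · obtain ⟨a, ha, b, hb, hab⟩ := hna
    obtain ⟨m, hm, hLm⟩ := hexp ⟨a, ha⟩ ⟨b, hb⟩
    have hdet : (1 : k[X] ⧸ I) = (ζ ^ m) ^ d := by
      have h1 : LinearMap.det (L' ⁅(⟨a, ha⟩ : P), ⟨b, hb⟩⁆) = 1 := by
        show ((LinearMap.det.comp L').toHomUnits ⁅(⟨a, ha⟩ : P), ⟨b, hb⟩⁆ : k[X] ⧸ I) = 1
        rw [map_commutatorElement, commutatorElement_eq_one_iff_mul_comm.mpr (mul_comm _ _), Units.val_one]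
      rw [hLm, LinearMap.det_smul, map_one, mul_one] at h1
      exact h1.symm
    have hmp : ¬ p ∣ m := fun ⟨c, hc⟩ => hab (by rw [hm, hc, pow_mul, hzp, one_pow])
    have hdvd : p ∣ m * d := by
      rw [← orderOf_eq_prime hζp hζ1]
      exact orderOf_dvd_of_pow_eq_one (by rw [pow_mul, ← hdet])
    exact Nat.le_of_dvd hd0 ((hp.out.dvd_mul.mp hdvd).resolve_left hmp)
  · haveI := Fintype.ofFinite (P ⧸ Subgroup.center P)
    have hli : LinearIndependent (k[X] ⧸ I) (fun c : P ⧸ Subgroup.center P => L' c.out) := by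
      rw [linearIndependent_iff']
      intro s
      induction s using Finset.strongInduction with
      | _ s ih =>
        intro g hg i hi
        by_contra hgi
        have hall : ∀ j ∈ s, g j ≠ 0 := by
          intro j hj hgj
          have := ih (s.erase j) (Finset.erase_ssubset hj) g
            (by rw [Finset.sum_erase _ (by rw [hgj, zero_smul])]; exact hg) i
            (Finset.mem_erase.mpr ⟨fun h => hgi (h ▸ hgj), hi⟩)
          exact hgi this
        by_cases hs : s = {i}
        · rw [hs, Finset.sum_singleton] at hg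
          have h1 := congrArg (fun F => F * L' i.out⁻¹) hg
          simp only [smul_mul_assoc, zero_mul, ← map_mul, mul_inv_cancel, map_one] at h1
          exact hgi ((smul_eq_zero.mp h1).resolve_right one_ne_zero)
        obtain ⟨j, hj, hji⟩ : ∃ j ∈ s, j ≠ i := by
          by_contra h
          push Not at h
          exact hs (Finset.eq_singleton_iff_unique_mem.mpr ⟨hi, h⟩)
        obtain ⟨t, ht⟩ : ∃ t : P, ⁅t, j.out⁆ ≠ ⁅t, i.out⁆ := by
          by_contra h
          push Not at h
          refine hji ?_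
          rw [← QuotientGroup.out_eq' j, ← QuotientGroup.out_eq' i, QuotientGroup.eq, Subgroup.mem_center_iff]
          intro t
          have h1 := h t
          rw [commutatorElement_def, commutatorElement_def] at h1
          have h3 : t * j.out * t⁻¹ * (j.out)⁻¹ * i.out = t * i.out * t⁻¹ := by rw [h1]; group
          calc t * ((j.out)⁻¹ * i.out)
              = (t * j.out * t⁻¹)⁻¹ * (t * i.out * t⁻¹) * t := by group
            _ = (t * j.out * t⁻¹)⁻¹ * ((t * j.out * t⁻¹ * (j.out)⁻¹) * i.out) * t := by rw [h3]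
            _ = (j.out)⁻¹ * i.out * t := by group
        choose ex hex1 hex2 using fun c : P ⧸ Subgroup.center P => hexp t c.out
        have hconj : ∀ c : P ⧸ Subgroup.center P, L' t * L' c.out * L' t⁻¹ = (ζ ^ ex c) • L' c.out := by
          intro c
          rw [← map_mul, ← map_mul, show t * c.out * t⁻¹ = ⁅t, c.out⁆ * c.out by rw [commutatorElement_def]; group,
            map_mul, hex2, smul_mul_assoc, one_mul]
        have h1 : ∑ c ∈ s, (g c * ζ ^ ex c) • L' c.out = 0 := by
          have h := congrArg (fun F => L' t * F * L' t⁻¹) hg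
          simp only [mul_zero, zero_mul, Finset.mul_sum, Finset.sum_mul, mul_smul_comm, smul_mul_assoc, hconj] at h
          simpa [smul_smul] using h
        have h2 : ∑ c ∈ s.erase i, (g c * (ζ ^ ex c - ζ ^ ex i)) • L' c.out = 0 := by
          rw [Finset.sum_erase _ (by rw [sub_self, mul_zero, zero_smul])]
          refine Eq.trans (Finset.sum_congr rfl fun c _ =>
            show _ = (g c * ζ ^ ex c) • L' c.out - (ζ ^ ex i) • (g c • L' c.out) from ?_) ?_
          · rw [mul_sub, mul_comm (g c) (ζ ^ ex i)]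
            exact (sub_smul (g c * ζ ^ ex c) (ζ ^ ex i * g c) (L' c.out)).trans (congrArg (_ - ·) (mul_smul (ζ ^ ex i) (g c) (L' c.out)))
          · rw [Finset.sum_sub_distrib, h1, ← Finset.smul_sum, hg, smul_zero, sub_self]
        have h3 := ih (s.erase i) (Finset.erase_ssubset hi) _ h2 j (Finset.mem_erase.mpr ⟨hji, hj⟩)
        rcases mul_eq_zero.mp h3 with h | h
        · exact hall j hj h
        · exact ht (Subtype.ext (by rw [hcast, hcast, hex1, hex1]; exact hinj1 _ _ (sub_eq_zero.mp h)))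
    have h := hli.fintype_card_le_finrank
    rw [Module.finrank_linearMap, ← hd, ← sq, ← Nat.card_eq_fintype_card, ← Subgroup.index_eq_card] at h
    exact h
  · rw [hd, ← Module.natCard_eq_pow_finrank]
    exact Nat.card_le_card_of_injective _ W.injective_subtype

/-- A vector moved by every element of order `p`. -/
theorem exists_moved_symplectic (hp2 : p ≠ 2) (hk : (p : k) ≠ 0) (ρ : H →* Module.End k V) {P : Subgroup H}
    {z : H} (hz1 : z ≠ 1) (hzp : z ^ p = 1) (hzc : ∀ x ∈ P, z * x = x * z)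
    (hcomm : ∀ a ∈ P, ∀ b ∈ P, ⁅a, b⁆ ∈ Subgroup.zpowers z)
    (hcen : ∀ x ∈ P, (∀ y ∈ P, x * y = y * x) → x ^ p = 1 → x ∈ Subgroup.zpowers z)
    (hna : ∃ a ∈ P, ∃ b ∈ P, ⁅a, b⁆ ≠ 1)
    (hzfix : ∀ m : ℕ, ¬ p ∣ m → ∀ v, ρ (z ^ m) v = v → v = 0) :
    ∃ v : V, ∀ x ∈ P, x ^ p = 1 → x ≠ 1 → ρ x v ≠ v := by
  classical
  haveI := Fintype.ofFinite H
  haveI := Fintype.ofFinite V
  obtain ⟨Q, d, hQ, hd, hN, hV⟩ := exists_field_bound ρ hz1 hzp hzc hcomm hna hzfix
  by_contra hcon
  push Not at hcon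
  set T : Finset H := Finset.univ.filter fun x => x ∈ P ∧ x ^ p = 1 ∧ x ∉ Subgroup.zpowers z with hTdef
  let F : H → Finset V := fun x => Finset.univ.filter fun v => ρ x v = v
  have hzf : ∀ x, x ∈ Subgroup.zpowers z → x ≠ 1 → ∀ v, ρ x v = v → v = 0 := by
    intro x hx hx1 v hv
    obtain ⟨m, rfl⟩ := (Submonoid.mem_powers_iff _ _).mp ((isOfFinOrder_of_finite z).mem_powers_iff_mem_zpowers.mpr hx)
    exact hzfix m (fun ⟨c, hc⟩ => hx1 (by rw [hc, pow_mul, hzp, one_pow])) v hv
  -- each fixed space is small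
  have hsmall : ∀ x ∈ T, (F x).card ^ p ≤ Nat.card V := by
    intro x hx
    obtain ⟨hxP, hxp, hxz⟩ := (Finset.mem_filter.mp hx).2
    obtain ⟨t, htP, htx⟩ : ∃ t ∈ P, ⁅t, x⁆ ≠ 1 := by
      by_contra h
      push Not at h
      exact hxz (hcen x hxP (fun y hy => (commutatorElement_eq_one_iff_mul_comm.mp (h y hy)).symm) hxp)
    obtain ⟨m, hm⟩ := (Submonoid.mem_powers_iff _ _).mp
      ((isOfFinOrder_of_finite z).mem_powers_iff_mem_zpowers.mpr (hcomm t htP x hxP))
    have hmp : ¬ p ∣ m := fun ⟨c, hc⟩ => htx (by rw [← hm, hc, pow_mul, hzp, one_pow])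
    have hzm : Commute (z ^ m) x := Commute.pow_left (hzc x hxP) m
    have h := card_fixed_pow_le hk ρ (a := x) (t := t) (z := z ^ m)
      (by rw [← pow_mul, mul_comm, pow_mul, hzp, one_pow])
      (by
        have h : ⁅t, x⁆ * x = t * x * t⁻¹ := by rw [commutatorElement_def]; group
        rw [← h, ← hm, hzm.eq])
      hzm.symm.eq (Commute.pow_left (hzc t htP) m).symm.eq
      (fun n hn v hv => hzfix (m * n) (fun h => (hp.out.dvd_mul.mp h).elim hmp hn) v (by rwa [pow_mul]))
    rwa [Nat.card_eq_fintype_card, Fintype.card_subtype] at h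
  -- the count of elements
  have hT : T.card ≤ p * (Subgroup.center P).index := by
    let q : H → P ⧸ Subgroup.center P := fun x => if h : x ∈ P then ((⟨x, h⟩ : P) : P ⧸ Subgroup.center P) else 1
    haveI := Fintype.ofFinite (P ⧸ Subgroup.center P)
    refine le_trans (Finset.card_le_mul_card_image (f := q) T p fun c hc => ?_) ?_
    · obtain ⟨x₀, hx₀, rfl⟩ := Finset.mem_image.mp hc
      obtain ⟨hP₀, hp₀, -⟩ := (Finset.mem_filter.mp hx₀).2
      have hsub : ∀ x ∈ T.filter (fun x => q x = q x₀), x₀⁻¹ * x ∈ Subgroup.zpowers z := by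
        intro x hx
        obtain ⟨hxT, he⟩ := Finset.mem_filter.mp hx
        obtain ⟨hxP, hxp, -⟩ := (Finset.mem_filter.mp hxT).2
        simp only [q, dif_pos hxP, dif_pos hP₀] at he
        have hc : (⟨x₀, hP₀⟩ : P)⁻¹ * ⟨x, hxP⟩ ∈ Subgroup.center P := QuotientGroup.eq.mp he.symm
        have hcom : ∀ y ∈ P, x₀⁻¹ * x * y = y * (x₀⁻¹ * x) := fun y hy =>
          (congrArg Subtype.val (Subgroup.mem_center_iff.mp hc ⟨y, hy⟩)).symm
        refine hcen _ (mul_mem (inv_mem hP₀) hxP) hcom ?_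
        have h2 : Commute x₀ (x₀⁻¹ * x) := (hcom x₀ hP₀).symm
        have h3 := h2.mul_pow p
        rw [mul_inv_cancel_left, hxp, hp₀, one_mul] at h3
        exact h3.symm
      have h := Finset.card_le_card_of_injOn (fun x => x₀⁻¹ * x) (t := (Subgroup.zpowers z : Set H).toFinset)
        (fun x hx => Set.mem_toFinset.mpr (hsub x hx)) (mul_right_injective _).injOn
      refine le_trans h (le_of_eq ?_)
      rw [Set.toFinset_card, ← Nat.card_eq_fintype_card]
      show Nat.card (Subgroup.zpowers z) = p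
      rw [Nat.card_zpowers, orderOf_eq_prime hzp hz1]
    · rw [Subgroup.index_eq_card, Nat.card_eq_fintype_card]
      exact Nat.mul_le_mul_left _ (Finset.card_le_univ _)
  -- double count
  have hmult : ∀ v : V, v ≠ 0 → p - 1 ≤ (T.filter fun x => ρ x v = v).card := by
    intro v hv
    obtain ⟨x, hxP, hxp, hx1, hxv⟩ := hcon v
    have hxz : x ∉ Subgroup.zpowers z := fun h => hv (hzf x h hx1 v hxv)
    have hord : orderOf x = p := orderOf_eq_prime hxp hx1
    refine le_trans (le_of_eq ?_) (Finset.card_le_card_of_injOn (s := Finset.Ico 1 p) (fun i => x ^ i) ?_ ?_)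
    · rw [Nat.card_Ico]
    · intro i hi
      obtain ⟨hi1, hi2⟩ := Finset.mem_Ico.mp hi
      refine Finset.mem_filter.mpr ⟨Finset.mem_filter.mpr ⟨Finset.mem_univ _, pow_mem hxP i, ?_, fun h => hxz ?_⟩, ?_⟩
      · rw [← pow_mul, mul_comm, pow_mul, hxp, one_pow]
      · have hcop : i.Coprime (orderOf x) := by
          rw [hord]
          exact ((hp.out.coprime_iff_not_dvd).mpr (Nat.not_dvd_of_pos_of_lt (by omega) hi2)).symm
        obtain ⟨r, hr⟩ := exists_pow_eq_self_of_coprime hcop
        rw [← hr]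
        exact pow_mem h r
      · show ρ (x ^ i) v = v
        clear hi hi1 hi2
        induction i with
        | zero => rw [pow_zero, map_one, Module.End.one_apply]
        | succ i ih => rw [pow_succ', map_mul, Module.End.mul_apply, ih, hxv]
    · intro i hi j hj h
      have hi2 := (Finset.mem_Ico.mp (Finset.mem_coe.mp hi)).2
      have hj2 := (Finset.mem_Ico.mp (Finset.mem_coe.mp hj)).2
      exact pow_injOn_Iio_orderOf (by rw [hord]; exact hi2) (by rw [hord]; exact hj2) h
  set S : Finset V := Finset.univ.erase 0 with hS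
  have hdc : ∑ x ∈ T, ((F x).card - 1) = ∑ v ∈ S, (T.filter fun x => ρ x v = v).card := by
    rw [Finset.sum_congr rfl (g := fun x => (S.filter fun v => ρ x v = v).card) fun x _ => ?_]
    · exact Finset.sum_card_bipartiteAbove_eq_sum_card_bipartiteBelow (fun x v => ρ x v = v) (s := T) (t := S)
    · show (F x).card - 1 = _
      rw [hS, Finset.filter_erase]
      refine (Finset.card_erase_of_mem ?_).symm
      exact Finset.mem_filter.mpr ⟨Finset.mem_univ _, (ρ x).map_zero⟩
  obtain ⟨v₁, hv₁⟩ := exists_ne (0 : V)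
  have hT1 : p - 1 ≤ T.card := (hmult v₁ hv₁).trans (Finset.card_filter_le _ _)
  obtain ⟨x₁, hx₁, hmax⟩ := Finset.exists_max_image T (fun x => (F x).card)
    (Finset.card_pos.mp (lt_of_lt_of_le (by have := hp.out.two_le; omega) hT1))
  have hlow : (p - 1) * (Nat.card V - 1) ≤ T.card * ((F x₁).card - 1) := by
    have h1 : S.card = Nat.card V - 1 := by
      rw [hS, Finset.card_erase_of_mem (Finset.mem_univ _), Finset.card_univ, Nat.card_eq_fintype_card]
    rw [mul_comm, ← h1, ← smul_eq_mul]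
    refine le_trans (Finset.card_nsmul_le_sum S _ _ fun v hv => hmult v (Finset.ne_of_mem_erase hv)) ?_
    rw [← hdc, ← smul_eq_mul]
    exact Finset.sum_le_card_nsmul T _ _ fun x hx => Nat.sub_le_sub_right (hmax x hx) 1
  have hF1 : 1 ≤ (F x₁).card := Finset.card_pos.mpr ⟨0, Finset.mem_filter.mpr ⟨Finset.mem_univ _, map_zero _⟩⟩
  have hfin : (p - 1) * Nat.card V ≤ T.card * (F x₁).card := by
    have hV0 : 1 ≤ Nat.card V := Nat.card_pos
    rw [Nat.mul_sub, Nat.mul_sub, mul_one, mul_one] at hlow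
    have h1 : p - 1 ≤ (p - 1) * Nat.card V := Nat.le_mul_of_pos_right _ hV0
    have h2 : T.card ≤ T.card * (F x₁).card := Nat.le_mul_of_pos_right _ hF1
    omega
  refine bound_false (by have := hp.out.two_le; omega) hd hQ hV (hsmall x₁ hx₁)
    (hfin.trans (Nat.mul_le_mul_right _ (hT.trans (Nat.mul_le_mul_left _ hN))))

end CfsgLib.MovedVector
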