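import Cfsg.Agent.MovedVector.Linear
import Cfsg.Agent.MovedVector.Subsets
import Cfsg.Agent.MovedVector.Symplectic
import Cfsg.Agent.PGroup.UniqueOrderP

/-!
For a normal `p`-subgroup `P`, `p` odd, of a linear group in coprime characteristic, and `a` in `P`
acting non-trivially, some vector is moved by all conjugates of `a`.
-/

set_option autoImplicit false
set_option linter.style.haveILetI false

open scoped commutatorElement

namespace CfsgLib.MovedVector

universe v w

variable {k : Type*} [Field k] {p : ℕ} [hp : Fact p.Prime]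

/-- The statement below a bound on the number of vectors. -/
def Below (k : Type*) [Field k] (p : ℕ) (n : ℕ) : Prop :=
  ∀ (V : Type v) [AddCommGroup V] [Module k V] [Finite V], Nat.card V ≤ n →
    ∀ (H : Type w) [Group H] [Finite H] (ρ : H →* Module.End k V) (P : Subgroup H) [P.Normal],
      IsPGroup p P → ∀ a ∈ P, ρ a ≠ 1 → ∃ x : V, ∀ h, ρ (h * a * h⁻¹) x ≠ x

section

variable {V : Type v} [AddCommGroup V] [Module k V] [Finite V] {H : Type w} [Group H] [Finite H]

omit [Finite H] [Finite V] hp in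
theorem eq_one_of_unipotent (hk : (p : k) ≠ 0) {g : H} (hg : ∃ j : ℕ, g ^ p ^ j = 1) (ρ : H →* Module.End k V)
    (h2 : ∀ x, ρ g (ρ g x - x) = ρ g x - x) : ρ g = 1 := by
  obtain ⟨j, hj⟩ := hg
  refine LinearMap.ext fun x => ?_
  set c := ρ g x - x with hc
  have hn : ∀ n : ℕ, ρ (g ^ n) x = x + n • c := by
    intro n
    induction n with
    | zero => rw [pow_zero, map_one, Module.End.one_apply, zero_smul, add_zero]
    | succ n ih =>
      rw [pow_succ', map_mul, Module.End.mul_apply, ih, map_add, map_nsmul, h2, succ_nsmul', ← add_assoc, hc,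
        add_sub_cancel]
  have h := hn (p ^ j)
  rw [hj, map_one, Module.End.one_apply, left_eq_add, ← Nat.cast_smul_eq_nsmul k, smul_eq_zero,
    Nat.cast_pow] at h
  rw [Module.End.one_apply, ← sub_eq_zero]
  exact h.resolve_left (pow_ne_zero _ hk)

/-- The proof for an invariant subspace. -/
theorem moved_of_invariant {n : ℕ} (IH : Below.{v, w} k p n) (hV : Nat.card V ≤ n + 1) (hk : (p : k) ≠ 0)
    (ρ : H →* Module.End k V) (P : Subgroup H) [P.Normal] (hP : IsPGroup p P) {a : H} (ha : a ∈ P)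
    (hρ : ρ a ≠ 1) (W : Submodule k V) (hW : ∀ g, ∀ x ∈ W, ρ g x ∈ W) (hW0 : W ≠ ⊥) (hWt : W ≠ ⊤) :
    ∃ x : V, ∀ h, ρ (h * a * h⁻¹) x ≠ x := by
  have hWcard : Nat.card W ≤ n := by
    have : Nat.card W < Nat.card V := by
      refine (Nat.card_le_card_of_injective _ W.injective_subtype).lt_of_ne fun e => hWt ?_
      haveI := Fintype.ofFinite V
      haveI := Fintype.ofFinite W
      rw [Nat.card_eq_fintype_card, Nat.card_eq_fintype_card] at e
      exact Submodule.eq_top_iff'.mpr fun x => by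
        obtain ⟨y, rfl⟩ := ((Fintype.bijective_iff_injective_and_card _).mpr ⟨W.injective_subtype, e⟩).2 x
        exact y.2
    omega
  by_cases hres : ∀ x ∈ W, ρ a x = x
  swap
  · let ρW : H →* Module.End k W :=
      { toFun := fun g => (ρ g).restrict (hW g)
        map_one' := LinearMap.ext fun x => Subtype.ext (by simp)
        map_mul' := fun g g' => LinearMap.ext fun x => Subtype.ext (by simp [Module.End.mul_apply]) }
    obtain ⟨x, hx⟩ := IH W hWcard H ρW P hP a ha (fun e => hres fun x hx => by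
      exact congrArg Subtype.val (LinearMap.congr_fun e ⟨x, hx⟩))
    exact ⟨x, fun h hh => hx h (Subtype.ext hh)⟩
  let ρQ : H →* Module.End k (V ⧸ W) :=
    { toFun := fun g => W.mapQ W (ρ g) (fun x hx => hW g x hx)
      map_one' := Submodule.linearMap_qext _ (LinearMap.ext fun x => by simp)
      map_mul' := fun g g' => Submodule.linearMap_qext _ (LinearMap.ext fun x => by
        simp [Module.End.mul_apply]) }
  haveI : Finite (V ⧸ W) := Finite.of_surjective _ W.mkQ_surjective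
  have hQcard : Nat.card (V ⧸ W) ≤ n := by
    have h1 := Submodule.card_eq_card_quotient_mul_card W
    haveI := Submodule.nontrivial_iff_ne_bot.mpr hW0
    have h2 : 1 < Nat.card W := Finite.one_lt_card
    have h3 : 0 < Nat.card (V ⧸ W) := Nat.card_pos
    nlinarith
  obtain ⟨x, hx⟩ := IH (V ⧸ W) hQcard H ρQ P hP a ha (fun e => hρ (eq_one_of_unipotent hk
    (by obtain ⟨j, hj⟩ := hP ⟨a, ha⟩; exact ⟨j, congrArg Subtype.val hj⟩) ρ fun x => hres _ (by
      rw [← Submodule.Quotient.mk_eq_zero W, Submodule.Quotient.mk_sub, sub_eq_zero]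
      exact LinearMap.congr_fun e (Submodule.Quotient.mk x))))
  obtain ⟨x, rfl⟩ := W.mkQ_surjective x
  exact ⟨x, fun h hh => hx h (congrArg W.mkQ hh)⟩

/-- The proof in the presence of a noncyclic abelian normal subgroup. -/
theorem moved_of_abelian {n : ℕ} (IH : Below.{v, w} k p n) (hV : Nat.card V ≤ n + 1) (hk : (p : k) ≠ 0)
    (hp2 : p ≠ 2) [Nontrivial V] (ρ : H →* Module.End k V) (hinj : Function.Injective ρ)
    (hirr : ∀ W : Submodule k V, (∀ g, ∀ x ∈ W, ρ g x ∈ W) → W = ⊥ ∨ W = ⊤)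
    (P : Subgroup H) [P.Normal] (hP : IsPGroup p P) {a : H} (ha : a ∈ P) (hρ : ρ a ≠ 1)
    (A : Subgroup H) [hAn : A.Normal] (hAP : A ≤ P) (hAc : ∀ x ∈ A, ∀ y ∈ A, x * y = y * x)
    (hAnc : ¬ IsCyclic A) : ∃ x : V, ∀ h, ρ (h * a * h⁻¹) x ≠ x := by
  classical
  have hApg : IsPGroup p A := hP.to_le hAP
  let ι := {K : Subgroup H //
    K ≤ A ∧ fixSpace ρ K ≠ ⊥ ∧ ∀ x ∈ A, x ∉ K → ∀ u ∈ fixSpace ρ K, ρ x u = u → u = 0}
  -- some member
  obtain ⟨K₀, hK₀⟩ : ∃ K : Subgroup H, K ≤ A ∧ fixSpace ρ K ≠ ⊥ ∧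
      ∀ x ∈ A, x ∉ K → ∀ u ∈ fixSpace ρ K, ρ x u = u → u = 0 := by
    obtain ⟨K, ⟨hKA, hK⟩, hmax⟩ := Set.Finite.exists_maximalFor id
      {K : Subgroup H | K ≤ A ∧ fixSpace ρ K ≠ ⊥} (Set.toFinite _) ⟨⊥, bot_le, fun e => by
        obtain ⟨u, hu⟩ := exists_ne (0 : V)
        have : u ∈ fixSpace ρ (⊥ : Subgroup H) := fun x hx => by
          rw [Subgroup.mem_bot.mp hx, map_one, Module.End.one_apply]
        rw [e] at this
        exact hu ((Submodule.mem_bot k).mp this)⟩
    refine ⟨K, hKA, hK, fun x hx hxK u hu hxu => ?_⟩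
    by_contra hu0
    refine hxK (hmax (j := K ⊔ Subgroup.zpowers x) ⟨sup_le hKA (Subgroup.zpowers_le.mpr hx), fun e => hu0 ?_⟩
      le_sup_left ((le_sup_right : Subgroup.zpowers x ≤ K ⊔ Subgroup.zpowers x) (Subgroup.mem_zpowers x)))
    let Su : Subgroup H :=
      { carrier := {y | ρ y u = u}
        one_mem' := show ρ 1 u = u by rw [map_one, Module.End.one_apply]
        mul_mem' := fun {y y'} (hy : ρ y u = u) (hy' : ρ y' u = u) => show ρ (y * y') u = u by
          rw [map_mul, Module.End.mul_apply, hy', hy]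
        inv_mem' := fun {y} (hy : ρ y u = u) => show ρ y⁻¹ u = u by
          conv_lhs => rw [← hy]
          exact apply_inv_apply ρ y u }
    have hsu : K ⊔ Subgroup.zpowers x ≤ Su := sup_le (fun y hy => hu y hy) (Subgroup.zpowers_le.mpr hxu)
    have : u ∈ fixSpace ρ (K ⊔ Subgroup.zpowers x) := fun y hy => hsu hy
    exact (Submodule.mem_bot k).mp (e ▸ this)
  let i₀ : ι := ⟨K₀, hK₀⟩
  haveI : Finite ι := Subtype.finite
  haveI := Fintype.ofFinite ι
  -- the action
  have hmap : ∀ (g : H) (K : Subgroup H), ∀ u ∈ fixSpace ρ (K.map (MulAut.conj g).toMonoidHom),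
      ρ g⁻¹ u ∈ fixSpace ρ K := fun g K u hu =>
    apply_mem_fixSpace (fun x hx => by
      rw [inv_inv]; exact Subgroup.mem_map_of_mem (MulAut.conj g).toMonoidHom hx) hu
  have hmap' : ∀ (g : H) (K : Subgroup H), ∀ u ∈ fixSpace ρ K,
      ρ g u ∈ fixSpace ρ (K.map (MulAut.conj g).toMonoidHom) := fun g K u hu =>
    apply_mem_fixSpace (fun x hx => by
      obtain ⟨y, hy, rfl⟩ := hx
      simpa [mul_assoc] using hy) hu
  have hmem : ∀ (g : H) (i : ι), i.1.map (MulAut.conj g).toMonoidHom ≤ A ∧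
      fixSpace ρ (i.1.map (MulAut.conj g).toMonoidHom) ≠ ⊥ ∧
      ∀ x ∈ A, x ∉ i.1.map (MulAut.conj g).toMonoidHom →
        ∀ u ∈ fixSpace ρ (i.1.map (MulAut.conj g).toMonoidHom), ρ x u = u → u = 0 := by
    intro g i
    refine ⟨?_, fun e => i.2.2.1 ?_, fun x hx hxK u hu hxu => ?_⟩
    · rintro _ ⟨y, hy, rfl⟩
      exact hAn.conj_mem y (i.2.1 hy) g
    · rw [Submodule.eq_bot_iff]
      intro u hu
      have h := hmap' g i.1 u hu
      rw [e, Submodule.mem_bot] at h
      exact apply_injective ρ g (by rw [h, map_zero])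
    · have h0 := i.2.2.2 (g⁻¹ * x * g) (by simpa using hAn.conj_mem x hx g⁻¹) (fun h => hxK ?_)
        (ρ g⁻¹ u) (hmap g i.1 u hu) ?_
      · exact apply_injective ρ g⁻¹ (by rw [h0, map_zero])
      · exact ⟨_, h, by simp [mul_assoc]⟩
      · rw [← Module.End.mul_apply, ← map_mul, show g⁻¹ * x * g * g⁻¹ = g⁻¹ * x by group, map_mul,
          Module.End.mul_apply, hxu]
  letI : MulAction H ι :=
    { smul := fun g i => ⟨i.1.map (MulAut.conj g).toMonoidHom, hmem g i⟩
      one_smul := fun i => Subtype.ext (by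
        show i.1.map (MulAut.conj (1 : H)).toMonoidHom = i.1
        rw [map_one]; exact Subgroup.map_id _)
      mul_smul := fun g g' i => Subtype.ext (by
        show i.1.map (MulAut.conj (g * g')).toMonoidHom =
          (i.1.map (MulAut.conj g').toMonoidHom).map (MulAut.conj g).toMonoidHom
        rw [Subgroup.map_map, map_mul]; rfl) }
  have hρmem : ∀ (g : H) (i : ι), ∀ u ∈ fixSpace ρ i.1, ρ g u ∈ fixSpace ρ (g • i).1 := fun g i u hu =>
    hmap' g i.1 u hu
  -- independence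
  have hindep : ∀ (s : Finset ι) (f : ι → V), (∀ i, f i ∈ fixSpace ρ i.1) → ∑ i ∈ s, f i = 0 →
      ∀ i ∈ s, f i = 0 := by
    intro s f hf hsum i hi
    have h : normMap ρ i.1 (∑ j ∈ s, f j) = normMap ρ i.1 (f i) := by
      rw [map_sum, Finset.sum_eq_single_of_mem i hi]
      intro j _ hji
      have hN : normMap ρ i.1 (f j) ∈ fixSpace ρ j.1 := fun x hx => by
        rw [apply_normMap_of_commute (fun y hy => hAc x (j.2.1 hx) y (i.2.1 hy)), hf j x hx]
      by_cases hle : i.1 ≤ j.1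
      · obtain ⟨x, hxj, hxi⟩ := SetLike.not_le_iff_exists.mp fun h : j.1 ≤ i.1 => hji (Subtype.ext (le_antisymm h hle))
        exact i.2.2.2 x (j.2.1 hxj) hxi _ (normMap_mem_fixSpace ρ i.1 (f j)) (hN x hxj)
      · obtain ⟨x, hxi, hxj⟩ := SetLike.not_le_iff_exists.mp hle
        exact j.2.2.2 x (i.2.1 hxi) hxj _ hN (normMap_mem_fixSpace ρ i.1 (f j) x hxi)
    rw [hsum, map_zero, normMap_of_fixed (hf i)] at h
    exact eq_zero_of_nsmul (hApg.to_le i.2.1) hk h.symm
  -- invariant sums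
  have hspan : ∀ O : Set ι, O.Nonempty → (∀ g : H, ∀ i ∈ O, g • i ∈ O) → ⨆ i ∈ O, fixSpace ρ i.1 = ⊤ := by
    intro O ⟨i, hi⟩ hO
    refine (hirr _ fun g x hx => ?_).resolve_left fun e => i.2.2.1 (le_bot_iff.mp
      ((le_biSup (fun j : ι => fixSpace ρ j.1) hi).trans e.le))
    have : (⨆ j ∈ O, fixSpace ρ j.1) ≤ (⨆ j ∈ O, fixSpace ρ j.1).comap (ρ g) := by
      refine iSup₂_le fun j hj u hu => ?_
      exact (le_biSup (fun j : ι => fixSpace ρ j.1) (hO g j hj)) (hρmem g j u hu)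
    exact this hx
  have hdec : ∀ (O : Finset ι) (x : V), x ∈ ⨆ i ∈ O, fixSpace ρ i.1 →
      ∃ f : ι → V, (∀ i, f i ∈ fixSpace ρ i.1) ∧ ∑ i ∈ O, f i = x := by
    intro O x hx
    obtain ⟨μ, hμ⟩ := (Submodule.mem_iSup_finset_iff_exists_sum (fun i : ι => fixSpace ρ i.1) x).mp hx
    exact ⟨fun i => (μ i : V), fun i => (μ i).2, hμ⟩
  have hone : ∀ g : H, (∀ i : ι, ∀ u ∈ fixSpace ρ i.1, ρ g u = u) → ρ g = 1 := by
    intro g hg
    refine LinearMap.ext fun x => ?_
    have hx : x ∈ ⨆ i ∈ (Set.univ : Set ι), fixSpace ρ i.1 := by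
      rw [hspan Set.univ ⟨i₀, Set.mem_univ _⟩ fun _ _ _ => Set.mem_univ _]; exact Submodule.mem_top
    rw [Module.End.one_apply]
    have : (⨆ i ∈ (Set.univ : Set ι), fixSpace ρ i.1) ≤ LinearMap.eqLocus (ρ g) (1 : Module.End k V) :=
      iSup₂_le fun i _ u hu => hg i u hu
    exact this hx
  -- the action is transitive
  have htrans : ∀ i : ι, ∃ g : H, g • i₀ = i := by
    intro i
    by_contra hne
    push Not at hne
    let O : Finset ι := Finset.univ.filter fun j => ∃ g : H, g • i₀ = j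
    obtain ⟨u, hu, hu0⟩ := Submodule.exists_mem_ne_zero_of_ne_bot i.2.2.1
    have hu' : u ∈ ⨆ j ∈ O, fixSpace ρ j.1 := by
      have h := hspan {j | ∃ g : H, g • i₀ = j} ⟨i₀, 1, one_smul _ _⟩ (by
        rintro g _ ⟨g', rfl⟩
        exact ⟨g * g', mul_smul _ _ _⟩)
      have e : (⨆ j ∈ O, fixSpace ρ j.1) = ⨆ j ∈ {j : ι | ∃ g : H, g • i₀ = j}, fixSpace ρ j.1 := by
        simp [O]
      rw [e, h]; exact Submodule.mem_top
    obtain ⟨f, hf, hfu⟩ := hdec O u hu'
    have hiO : i ∉ O := fun h => by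
      obtain ⟨g, hg⟩ := (Finset.mem_filter.mp h).2
      exact hne g hg
    have h := hindep (insert i O) (Function.update f i (-u)) (fun j => by
      rcases eq_or_ne j i with rfl | hj
      · rw [Function.update_self]; exact neg_mem hu
      · rw [Function.update_of_ne hj]; exact hf j) (by
      rw [Finset.sum_insert hiO, Function.update_self, Finset.sum_update_of_notMem hiO, hfu, neg_add_cancel])
      i (Finset.mem_insert_self i O)
    rw [Function.update_self, neg_eq_zero] at h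
    exact hu0 h
  by_cases hfixall : ∀ i : ι, a • i = i
  swap
  · -- a vector whose stabiliser in `P` fixes all the pieces
    obtain ⟨S, hS⟩ := exists_subset (ι := ι) hP hp2
    choose wv hwv hwv0 using fun i : ι => Submodule.exists_mem_ne_zero_of_ne_bot i.2.2.1
    refine ⟨∑ i ∈ S, wv i, fun h hh => hfixall fun i => ?_⟩
    have hy : h * a * h⁻¹ ∈ P := (inferInstance : P.Normal).conj_mem a ha h
    set y := h * a * h⁻¹ with hydef
    have hstab : ∀ i ∈ S, y • i ∈ S := by
      intro i hi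
      by_contra hyi
      let f : ι → V := fun j => (if j ∈ S then wv j else 0) - (if y⁻¹ • j ∈ S then ρ y (wv (y⁻¹ • j)) else 0)
      have hf : ∀ j, f j ∈ fixSpace ρ j.1 := by
        intro j
        refine Submodule.sub_mem _ ?_ ?_
        · split_ifs
          · exact hwv j
          · exact zero_mem _
        · split_ifs
          · have h1 := hρmem y (y⁻¹ • j) _ (hwv (y⁻¹ • j))
            rwa [smul_inv_smul] at h1
          · exact zero_mem _
      have h2 : ∑ j : ι, (if y⁻¹ • j ∈ S then ρ y (wv (y⁻¹ • j)) else 0) =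
          ∑ j : ι, if j ∈ S then ρ y (wv j) else 0 :=
        Fintype.sum_equiv (MulAction.toPerm y⁻¹) _ _ fun j => rfl
      have hsum : ∑ j ∈ Finset.univ, f j = 0 := by
        simp only [f, Finset.sum_sub_distrib, h2, Finset.sum_ite_mem, Finset.univ_inter]
        rw [← map_sum, hh, sub_self]
      have h3 := hindep Finset.univ f hf hsum (y • i) (Finset.mem_univ _)
      simp only [f, if_neg hyi, inv_smul_smul, if_pos hi, zero_sub, neg_eq_zero] at h3
      exact hwv0 i (apply_injective ρ y (by rw [h3, map_zero]))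
    have hall := hS ⟨y, hy⟩ (fun i hi => hstab i hi)
    calc a • i = h⁻¹ • (y • (h • i)) := by
          rw [hydef, ← mul_smul, ← mul_smul]; congr 1; group
      _ = i := by rw [show y • (h • i) = h • i from hall (h • i), inv_smul_smul]
  -- `a` fixes every piece
  obtain ⟨i, hi⟩ : ∃ i : ι, ∃ u ∈ fixSpace ρ i.1, ρ a u ≠ u := by
    by_contra hcon
    push Not at hcon
    exact hρ (hone a hcon)
  set W := fixSpace ρ i.1 with hW
  set Hi := MulAction.stabilizer H i with hHi
  have hHiW : ∀ g : Hi, ∀ u ∈ W, ρ (g : H) u ∈ W := fun g u hu => by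
    have h1 := hρmem g i u hu
    rwa [show (g : H) • i = i from g.2] at h1
  let ρi : Hi →* Module.End k W :=
    { toFun := fun g => (ρ g).restrict (hHiW g)
      map_one' := LinearMap.ext fun x => Subtype.ext (by simp)
      map_mul' := fun g g' => LinearMap.ext fun x => Subtype.ext (by simp [Module.End.mul_apply]) }
  have hWlt : Nat.card W ≤ n := by
    have : W ≠ ⊤ := by
      intro e
      -- otherwise `A` would act fixed-point-freely
      have hK : i.1 = ⊥ := by
        rw [eq_bot_iff]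
        intro x hx
        refine Subgroup.mem_bot.mpr (hinj ?_)
        rw [map_one]
        refine LinearMap.ext fun u => ?_
        have : u ∈ W := by rw [e]; exact Submodule.mem_top
        rw [Module.End.one_apply]
        exact this x hx
      obtain ⟨b, c, hb, hc, hbc⟩ : ∃ b c : A, orderOf b = p ∧ orderOf c = p ∧ b ∉ Subgroup.zpowers c := by
        by_contra hcon
        push Not at hcon
        exact hAnc (CfsgLib.PGroup.isCyclic_of_unique_subgroup hp2 hApg fun x y hx hy => hcon y x hy hx)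
      obtain ⟨u, hu⟩ := exists_ne (0 : V)
      refine hu (eq_zero_of_fpf_pair hk ρ (b := (b : H)) (c := (c : H)) (hAc _ b.2 _ c.2)
        (by rw [Subgroup.orderOf_coe]; exact hb) (by rw [Subgroup.orderOf_coe]; exact hc) ?_ ?_ u)
      · intro h
        obtain ⟨m, hm⟩ := h
        exact hbc ⟨m, Subtype.ext (by simpa using hm)⟩
      · intro x hx hx1 x' hx'
        have hxA : x ∈ A := (Subgroup.closure_le A).mpr (by
          intro y hy
          rcases hy with rfl | rfl
          · exact b.2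
          · exact c.2) hx
        exact i.2.2.2 x hxA (fun h => hx1 (Subgroup.mem_bot.mp (hK ▸ h))) x' (show x' ∈ W by rw [e]; exact Submodule.mem_top) hx'
    have h1 := Submodule.card_eq_card_quotient_mul_card W
    haveI : Nontrivial (V ⧸ W) := Submodule.Quotient.nontrivial_iff.mpr this
    haveI : Finite (V ⧸ W) := Finite.of_surjective _ W.mkQ_surjective
    have h2 : 1 < Nat.card (V ⧸ W) := Finite.one_lt_card
    have h3 : 0 < Nat.card W := Nat.card_pos
    nlinarith
  have hPi : IsPGroup p (P.subgroupOf Hi) :=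
    hP.comap_of_injective Hi.subtype Hi.subtype_injective
  obtain ⟨u₀, hu₀⟩ := IH W hWlt Hi ρi (P.subgroupOf Hi) hPi ⟨a, hfixall i⟩ ha (fun e => by
    obtain ⟨u, hu, hne⟩ := hi
    exact hne (congrArg Subtype.val (LinearMap.congr_fun e ⟨u, hu⟩)))
  choose t ht using htrans
  let t' : ι → H := fun j => t j * (t i)⁻¹
  have ht' : ∀ j, t' j • i = j := fun j => by
    show (t j * (t i)⁻¹) • i = j
    conv_lhs => arg 2; rw [← ht i]
    rw [mul_smul, inv_smul_smul, ht]
  refine ⟨∑ j : ι, ρ (t' j) (u₀ : V), fun h hh => ?_⟩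
  set y := h * a * h⁻¹ with hydef
  have hyfix : ∀ j : ι, y • j = j := fun j => by
    rw [hydef, mul_smul, mul_smul, hfixall, smul_inv_smul]
  have hcomp : ∀ j : ι, ρ y (ρ (t' j) (u₀ : V)) = ρ (t' j) (u₀ : V) := by
    intro j
    have hmemj : ∀ j : ι, ρ (t' j) (u₀ : V) ∈ fixSpace ρ j.1 := fun j => by
      have h1 := hρmem (t' j) i _ u₀.2
      rwa [ht'] at h1
    refine sub_eq_zero.mp (hindep Finset.univ (fun j => ρ y (ρ (t' j) (u₀ : V)) - ρ (t' j) (u₀ : V))
      (fun j => Submodule.sub_mem _ ?_ (hmemj j)) ?_ j (Finset.mem_univ j))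
    · have h1 := hρmem y j _ (hmemj j)
      rwa [hyfix] at h1
    · rw [Finset.sum_sub_distrib, ← map_sum, hh, sub_self]
  set j := h • i with hj
  have hg : (t' j)⁻¹ * h ∈ Hi := by
    rw [hHi, MulAction.mem_stabilizer_iff, mul_smul, inv_smul_eq_iff, ht']
  refine hu₀ ⟨_, hg⟩ (Subtype.ext ?_)
  show ρ ((t' j)⁻¹ * h * a * ((t' j)⁻¹ * h)⁻¹) (u₀ : V) = (u₀ : V)
  have e : (t' j)⁻¹ * h * a * ((t' j)⁻¹ * h)⁻¹ = (t' j)⁻¹ * (y * t' j) := by rw [hydef]; group
  rw [e, map_mul, map_mul, Module.End.mul_apply, Module.End.mul_apply, hcomp, apply_inv_apply]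

omit [Finite V] in
theorem eq_pow_of_zpowers {z x : H} (hx : x ∈ Subgroup.zpowers z) : ∃ m : ℕ, z ^ m = x :=
  (Submonoid.mem_powers_iff _ _).mp ((isOfFinOrder_of_finite z).mem_powers_iff_mem_zpowers.mpr hx)

omit [Finite V] in
/-- A nontrivial normal subgroup of order `p` fixes only zero. -/
theorem eq_zero_of_normal_zpowers (ρ : H →* Module.End k V) (hinj : Function.Injective ρ)
    (hirr : ∀ W : Submodule k V, (∀ g, ∀ x ∈ W, ρ g x ∈ W) → W = ⊥ ∨ W = ⊤) {z : H} (hz1 : z ≠ 1)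
    (hzp : z ^ p = 1) (hnorm : ∀ g : H, g * z * g⁻¹ ∈ Subgroup.zpowers z) (m : ℕ) (hm : ¬ p ∣ m) (x : V)
    (hx : ρ (z ^ m) x = x) : x = 0 := by
  have hgen : z ∈ Subgroup.zpowers (z ^ m) := by
    obtain ⟨r, hr⟩ := exists_pow_eq_self_of_coprime (x := z) (n := m)
      (by rw [orderOf_eq_prime hzp hz1]; exact ((hp.out.coprime_iff_not_dvd).mpr hm).symm)
    exact ⟨r, (zpow_natCast _ r).trans hr⟩
  have hall : x ∈ fixSpace ρ (Subgroup.zpowers z) := by
    intro y hy
    obtain ⟨s, hs⟩ := eq_pow_of_zpowers ((Subgroup.zpowers_le.mpr hgen) hy)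
    rw [← hs]
    clear hs hy
    induction s with
    | zero => rw [pow_zero, map_one, Module.End.one_apply]
    | succ s ih => rw [pow_succ', map_mul, Module.End.mul_apply, ih, hx]
  rcases hirr (fixSpace ρ (Subgroup.zpowers z)) fun g y hy => apply_mem_fixSpace (fun u hu => by
    obtain ⟨s, rfl⟩ := hu
    show g⁻¹ * z ^ s * g ∈ Subgroup.zpowers z
    have h := zpow_mem (hnorm g⁻¹) s
    rwa [inv_inv, show (g⁻¹ * z * g) ^ s = g⁻¹ * z ^ s * g by
      simpa using (conj_zpow (a := g⁻¹) (b := z) (i := s))] at h) hy with h | h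
  · exact (Submodule.mem_bot k).mp (h ▸ hall)
  · refine absurd (hinj ?_) hz1
    rw [map_one]
    refine LinearMap.ext fun y => ?_
    have hy : y ∈ fixSpace ρ (Subgroup.zpowers z) := h ▸ Submodule.mem_top
    exact hy z (Subgroup.mem_zpowers z)

/-- The proof when all abelian normal subgroups inside `P` are cyclic. -/
theorem moved_of_cyclic (hk : (p : k) ≠ 0) (hp2 : p ≠ 2) [Nontrivial V] (ρ : H →* Module.End k V)
    (hinj : Function.Injective ρ) (hirr : ∀ W : Submodule k V, (∀ g, ∀ x ∈ W, ρ g x ∈ W) → W = ⊥ ∨ W = ⊤)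
    (P : Subgroup H) [hPn : P.Normal] (hP : IsPGroup p P)
    (hcyc : ∀ A : Subgroup H, A.Normal → A ≤ P → (∀ x ∈ A, ∀ y ∈ A, x * y = y * x) → IsCyclic A) :
    ∃ x : V, ∀ y ∈ P, y ^ p = 1 → y ≠ 1 → ρ y x ≠ x := by
  by_cases hab : ∀ x ∈ P, ∀ y ∈ P, x * y = y * x
  · haveI := hcyc P hPn le_rfl hab
    obtain ⟨u, hu⟩ := exists_ne (0 : V)
    refine ⟨u, fun y hy hyp hy1 hyu => hu ?_⟩
    refine eq_zero_of_normal_zpowers (p := p) ρ hinj hirr hy1 hyp (fun g => ?_) 1
      (fun h => hp.out.ne_one (Nat.dvd_one.mp h)) u (by rwa [pow_one])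
    exact CfsgLib.SymplecticType.mem_zpowers_of_isCyclic (hcyc P hPn le_rfl hab) hy (hPn.conj_mem y hy g)
      (by rw [orderOf_eq_prime hyp hy1, conj_pow, hyp, mul_one, mul_inv_cancel])
  have hsymp : ∀ A : Subgroup P, A.Characteristic → IsMulCommutative A → IsCyclic A := by
    intro A hA hAc
    haveI := hA
    haveI : (A.map P.subtype).Normal := ConjAct.normal_of_characteristic_of_normal
    haveI := hcyc (A.map P.subtype) inferInstance (Subgroup.map_subtype_le A) (by
      rintro _ ⟨x, hx, rfl⟩ _ ⟨y, hy, rfl⟩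
      have h : (⟨x, hx⟩ : A) * ⟨y, hy⟩ = ⟨y, hy⟩ * ⟨x, hx⟩ := hAc.is_comm.comm _ _
      exact congrArg (fun u : A => ((u : P) : H)) h)
    exact (A.equivMapOfInjective P.subtype P.subtype_injective).isCyclic.mpr inferInstance
  obtain ⟨z, hzc, hz1, hzp, hzcen, hcomm, hcen⟩ := exists_central_commutator hP hp2 hsymp
    (fun h => hab fun x hx y hy => congrArg Subtype.val (h ⟨x, hx⟩ ⟨y, hy⟩))
  have hz1' : (z : H) ≠ 1 := fun h => hz1 (Subtype.ext h)
  have hzp' : (z : H) ^ p = 1 := congrArg Subtype.val hzp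
  have hZeq : (commutator P).map P.subtype = Subgroup.zpowers (z : H) := by
    refine le_antisymm (Subgroup.map_le_iff_le_comap.mpr ?_) (Subgroup.zpowers_le.mpr ⟨z, hzc, rfl⟩)
    rw [commutator_def, Subgroup.commutator_le]
    intro x _ y _
    obtain ⟨s, hs⟩ := hcomm x y
    exact ⟨s, congrArg Subtype.val hs⟩
  haveI : ((commutator P).map P.subtype).Normal := ConjAct.normal_of_characteristic_of_normal
  have hnorm : ∀ g : H, g * (z : H) * g⁻¹ ∈ Subgroup.zpowers (z : H) := fun g => by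
    rw [← hZeq]
    exact (inferInstance : ((commutator P).map P.subtype).Normal).conj_mem _ ⟨z, hzc, rfl⟩ g
  refine exists_moved_symplectic hp2 hk ρ (z := (z : H)) hz1' hzp' ?_ ?_ ?_ ?_
    (eq_zero_of_normal_zpowers (p := p) ρ hinj hirr hz1' hzp' hnorm)
  · exact fun x hx => (congrArg Subtype.val (Subgroup.mem_center_iff.mp hzcen ⟨x, hx⟩)).symm
  · intro x hx y hy
    obtain ⟨s, hs⟩ := hcomm ⟨x, hx⟩ ⟨y, hy⟩
    exact ⟨s, congrArg Subtype.val hs⟩
  · intro x hx hxc hxp
    obtain ⟨s, hs⟩ := hcen ⟨x, hx⟩ (Subgroup.mem_center_iff.mpr fun y => Subtype.ext (hxc y y.2).symm)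
      (Subtype.ext hxp)
    exact ⟨s, congrArg Subtype.val hs⟩
  · push Not at hab
    obtain ⟨x, hx, y, hy, hxy⟩ := hab
    exact ⟨x, hx, y, hy, fun h => hxy (commutatorElement_eq_one_iff_mul_comm.mp h)⟩

/-- The faithful irreducible case. -/
theorem moved_of_irreducible {n : ℕ} (IH : Below.{v, w} k p n) (hV : Nat.card V ≤ n + 1) (hk : (p : k) ≠ 0)
    (hp2 : p ≠ 2) [Nontrivial V] (ρ : H →* Module.End k V) (hinj : Function.Injective ρ)
    (hirr : ∀ W : Submodule k V, (∀ g, ∀ x ∈ W, ρ g x ∈ W) → W = ⊥ ∨ W = ⊤)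
    (P : Subgroup H) [P.Normal] (hP : IsPGroup p P) {a : H} (ha : a ∈ P) (hρ : ρ a ≠ 1) :
    ∃ x : V, ∀ h, ρ (h * a * h⁻¹) x ≠ x := by
  by_cases hex : ∃ A : Subgroup H, A.Normal ∧ A ≤ P ∧ (∀ x ∈ A, ∀ y ∈ A, x * y = y * x) ∧ ¬ IsCyclic A
  · obtain ⟨A, hAn, hAP, hAc, hAnc⟩ := hex
    haveI := hAn
    exact moved_of_abelian IH hV hk hp2 ρ hinj hirr P hP ha hρ A hAP hAc hAnc
  push Not at hex
  obtain ⟨x, hx⟩ := moved_of_cyclic hk hp2 ρ hinj hirr P hP hex
  obtain ⟨j, hj⟩ := IsPGroup.iff_orderOf.mp hP ⟨a, ha⟩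
  rw [Subgroup.orderOf_mk] at hj
  have ha1 : a ≠ 1 := fun e => hρ (by rw [e, map_one])
  have hj0 : j ≠ 0 := fun e => ha1 (orderOf_eq_one_iff.mp (by rw [hj, e, pow_zero]))
  obtain ⟨i, rfl⟩ : ∃ i, j = i + 1 := ⟨j - 1, by omega⟩
  refine ⟨x, fun h hh => hx ((h * a * h⁻¹) ^ p ^ i) (pow_mem ((inferInstance : P.Normal).conj_mem a ha h) _)
    ?_ ?_ ?_⟩
  · rw [← pow_mul, ← pow_succ, conj_pow, ← hj, pow_orderOf_eq_one, mul_one, mul_inv_cancel]
  · rw [conj_pow]
    intro e
    have h1 : a ^ p ^ i = 1 := conj_eq_one_iff.mp e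
    have := Nat.le_of_dvd (pow_pos hp.out.pos i) (orderOf_dvd_of_pow_eq_one h1)
    rw [hj] at this
    exact absurd this (not_le.mpr (Nat.pow_lt_pow_right hp.out.one_lt (by omega)))
  · have hpow : ∀ s : ℕ, ρ ((h * a * h⁻¹) ^ s) x = x := fun s => by
      induction s with
      | zero => rw [pow_zero, map_one, Module.End.one_apply]
      | succ s ih => rw [pow_succ', map_mul, Module.End.mul_apply, ih, hh]
    exact hpow _

end

theorem below_all (hk : (p : k) ≠ 0) (hp2 : p ≠ 2) : ∀ n, Below.{v, w} k p n := by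
  intro n
  induction n with
  | zero =>
    intro V _ _ _ hV
    have : 0 < Nat.card V := Nat.card_pos
    omega
  | succ n ih =>
    intro V _ _ _ hV H _ _ ρ P _ hP a ha hρ
    haveI : Nontrivial V := by
      by_contra h
      rw [not_nontrivial_iff_subsingleton] at h
      exact hρ (LinearMap.ext fun x => Subsingleton.elim _ _)
    by_cases hred : ∃ W : Submodule k V, (∀ g, ∀ x ∈ W, ρ g x ∈ W) ∧ W ≠ ⊥ ∧ W ≠ ⊤
    · obtain ⟨W, hW, h1, h2⟩ := hred
      exact moved_of_invariant ih hV hk ρ P hP ha hρ W hW h1 h2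
    push Not at hred
    let N : Subgroup H := ρ.ker
    let q : H →* H ⧸ N := QuotientGroup.mk' N
    let ρ' : H ⧸ N →* Module.End k V := QuotientGroup.lift N ρ le_rfl
    have hρ' : ∀ g, ρ' (q g) = ρ g := fun g => rfl
    have hinj : Function.Injective ρ' := by
      rintro ⟨x⟩ ⟨y⟩ hxy
      refine QuotientGroup.eq.mpr (MonoidHom.mem_ker.mpr ?_)
      change ρ x = ρ y at hxy
      rw [map_mul, ← hxy, ← map_mul, inv_mul_cancel, map_one]
    haveI : (P.map q).Normal := (inferInstance : P.Normal).map q (QuotientGroup.mk'_surjective N)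
    obtain ⟨x, hx⟩ := moved_of_irreducible ih hV hk hp2 ρ' hinj
      (fun W hW => by
        by_cases hb : W = ⊥
        · exact Or.inl hb
        · exact Or.inr (hred W (fun g u hu => by simpa [hρ'] using hW (q g) u hu) hb))
      (P.map q) (hP.map q) (a := q a) (Subgroup.mem_map_of_mem q ha) (by rwa [hρ'])
    refine ⟨x, fun h hh => hx (q h) ?_⟩
    rw [← map_inv, ← map_mul, ← map_mul, hρ']
    exact hh

/-- For a normal `p`-subgroup `P`, `p` odd, and `a ∈ P` acting non-trivially in characteristic other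
than `p`, some vector is fixed by no conjugate of `a`. -/
theorem exists_moved {V : Type v} [AddCommGroup V] [Module k V] [Finite V] (hk : (p : k) ≠ 0) (hp2 : p ≠ 2)
    {H : Type w} [Group H] [Finite H] (ρ : H →* Module.End k V) (P : Subgroup H) [P.Normal] (hP : IsPGroup p P)
    {a : H} (ha : a ∈ P) (hρ : ρ a ≠ 1) : ∃ x : V, ∀ h, ρ (h * a * h⁻¹) x ≠ x :=
  below_all hk hp2 (Nat.card V) V le_rfl H ρ P hP a ha hρ

end CfsgLib.MovedVector
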