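import Cfsg.Agent.MovedVector.Automorphisms
import Cfsg.Agent.Constrained.Basic
import Cfsg.Agent.Solvable.MinNormal

/-!
A `p`-element that lies in `O_p` modulo a minimal normal `q`-subgroup `M` but not in `O_p(G)` moves a
vector of `M` under every conjugation.
-/

set_option autoImplicit false
set_option linter.style.haveILetI false

namespace CfsgLib.MovedVector

open Cfsg

variable {G : Type*} [Group G] [Finite G] {p : ℕ} [hp : Fact p.Prime] (M : Subgroup G) [M.Normal]

/-- The image of `O_p(G/M)` in `Aut M` is a `p`-group. -/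
theorem isPGroup_map_conjNormal (hM : IsMulCommutative M) :
    IsPGroup p (((pCore p (G ⧸ M)).comap (QuotientGroup.mk' M)).map (MulAut.conjNormal (H := M))) := by
  intro ⟨x, hx⟩
  obtain ⟨l, hl, rfl⟩ := hx
  obtain ⟨j, hj⟩ := CfsgLib.Constrained.isPGroup_pCore (p := p) (G := G ⧸ M) ⟨_, hl⟩
  have hlM : l ^ p ^ j ∈ M := by
    rw [← QuotientGroup.eq_one_iff, QuotientGroup.mk_pow]
    exact congrArg Subtype.val hj
  refine ⟨j, Subtype.ext ?_⟩
  show (MulAut.conjNormal l : MulAut M) ^ p ^ j = 1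
  rw [← map_pow]
  refine MulEquiv.ext fun m => Subtype.ext ?_
  have h : (l ^ p ^ j) * (m : G) = m * (l ^ p ^ j) :=
    congrArg Subtype.val (hM.is_comm.comm (⟨_, hlM⟩ : M) m)
  rw [MulAut.conjNormal_apply, MulAut.one_apply, h, mul_inv_cancel_right]

/-- The action on `M` is non-trivial. -/
theorem conjNormal_ne_one {a : G} (ha : ∃ j : ℕ, a ^ p ^ j = 1)
    (haL : (a : G ⧸ M) ∈ pCore p (G ⧸ M)) (hnot : a ∉ pCore p G) : (MulAut.conjNormal a : MulAut M) ≠ 1 := by
  intro e
  set L := (pCore p (G ⧸ M)).comap (QuotientGroup.mk' M) with hL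
  set C : Subgroup G := L ⊓ Subgroup.centralizer (M : Set G) with hC
  have haC : a ∈ C := ⟨haL, Subgroup.mem_centralizer_iff.mpr fun m hm => by
    have h : a * m * a⁻¹ = m := by
      have := congrArg (fun φ : MulAut M => ((φ ⟨m, hm⟩ : M) : G)) e
      simpa [MulAut.conjNormal_apply] using this
    conv_lhs => rw [← h]
    group⟩
  let f : C →* pCore p (G ⧸ M) :=
    { toFun := fun x => ⟨((x : G) : G ⧸ M), x.2.1⟩
      map_one' := rfl
      map_mul' := fun _ _ => rfl }
  haveI : Group.IsNilpotent (pCore p (G ⧸ M)) :=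
    (CfsgLib.Constrained.isPGroup_pCore (p := p) (G := G ⧸ M)).isNilpotent
  haveI : Group.IsNilpotent C := by
    refine Subgroup.isNilpotent_of_ker_le_center f fun x hx => Subgroup.mem_center_iff.mpr fun y => Subtype.ext ?_
    have hxM : (x : G) ∈ M := (QuotientGroup.eq_one_iff _).mp (congrArg Subtype.val hx)
    exact ((Subgroup.mem_centralizer_iff.mp y.2.2) _ hxM).symm
  obtain ⟨j, hj⟩ := ha
  obtain ⟨i, -, hi⟩ := (Nat.dvd_prime_pow hp.out).1 (orderOf_dvd_of_pow_eq_one hj)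
  obtain ⟨S, hS⟩ := (IsPGroup.of_card (p := p) (n := i)
    (show Nat.card (Subgroup.zpowers (⟨a, haC⟩ : C)) = p ^ i by
      rw [Nat.card_zpowers, Subgroup.orderOf_mk, hi])).exists_le_sylow
  haveI : (S : Subgroup C).Normal := inferInstance
  exact hnot (CfsgLib.Constrained.map_pCore_subgroup_le C
    ⟨⟨a, haC⟩, CfsgLib.Constrained.le_pCore inferInstance S.isPGroup' (hS (Subgroup.mem_zpowers _)), rfl⟩)

/-- The moved element of `M`. -/
theorem exists_moved_conjNormal {q : ℕ} [Fact q.Prime] (hM : IsMulCommutative M) (hMq : ∀ x ∈ M, x ^ q = 1)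
    (hp2 : p ≠ 2) (hpq : p ≠ q) {a : G} (ha : ∃ j : ℕ, a ^ p ^ j = 1)
    (haL : (a : G ⧸ M) ∈ pCore p (G ⧸ M)) (hnot : a ∉ pCore p G) :
    ∃ m ∈ M, ∀ g : G, (g * a * g⁻¹) * m * (g * a * g⁻¹)⁻¹ ≠ m := by
  letI : CommGroup M := { (inferInstance : Group M) with mul_comm := hM.is_comm.comm }
  obtain ⟨c, hc⟩ := exists_moved_mulAut (p := p) (q := q) (C := M) (fun c => Subtype.ext (hMq c c.2)) hp2 hpq
    (MulAut.conjNormal (H := M)) ((pCore p (G ⧸ M)).comap (QuotientGroup.mk' M))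
    (isPGroup_map_conjNormal M hM) (a := a) haL (conjNormal_ne_one M ha haL hnot)
  exact ⟨c, c.2, fun g h => hc g (Subtype.ext h)⟩

/-- An element lies in `O_p(G)` if it does so modulo a normal `p`-subgroup. -/
theorem mem_pCore_of_quotient (hM : IsPGroup p M) {a : G} (haL : (a : G ⧸ M) ∈ pCore p (G ⧸ M)) :
    a ∈ pCore p G := by
  rw [CfsgLib.Constrained.pCore_quotient_of_le hM] at haL
  obtain ⟨b, hb, hba⟩ := haL
  have h : b⁻¹ * a ∈ M := QuotientGroup.eq.mp hba
  have := mul_mem hb (CfsgLib.Constrained.le_pCore (p := p) inferInstance hM h)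
  rwa [mul_inv_cancel_left] at this

end CfsgLib.MovedVector
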