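import Cfsg.Agent.MovedVector.Reduction
import Cfsg.Agent.Chars.Basic
import Cfsg.Agent.Chars.Basic.Linear
import Cfsg.Agent.Chars.Induced.Clifford

/-!
In a finite solvable group and for an odd prime `p`, every element with a power that is a `p`-element
outside `O_p(G)` is a zero of an irreducible character.
-/

set_option autoImplicit false
set_option linter.style.haveILetI false

namespace CfsgLib.MovedVector

open Cfsg CfsgLib.Chars CfsgLib.Chars.Induced

universe u

variable {G : Type u} [Group G] [Finite G] {p : ℕ} [hp : Fact p.Prime]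

/-- Conjugation on the linear characters of a normal subgroup. -/
noncomputable def dualAction (M : Subgroup G) [M.Normal] : G →* MulAut (M →* ℂˣ) where
  toFun g :=
    { toFun := fun l => l.comp ((MulAut.conjNormal g : MulAut M)⁻¹).toMonoidHom
      invFun := fun l => l.comp (MulAut.conjNormal g : MulAut M).toMonoidHom
      left_inv := fun l => MonoidHom.ext fun x => by simp
      right_inv := fun l => MonoidHom.ext fun x => by simp
      map_mul' := fun _ _ => rfl }
  map_one' := MulEquiv.ext fun l => MonoidHom.ext fun x => by simp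
  map_mul' g h := MulEquiv.ext fun l => MonoidHom.ext fun x => by simp

omit [Finite G] in
theorem commutator_eq_bot_of_comm (M : Subgroup G) (hM : IsMulCommutative M) : commutator M = ⊥ := by
  rw [commutator_def, Subgroup.commutator_eq_bot_iff_le_centralizer]
  exact fun a _ => Subgroup.mem_centralizer_iff.mpr fun b _ => hM.is_comm.comm b a

/-- Conjugation is faithful on linear characters of an abelian normal subgroup. -/
theorem conjNormal_eq_one_of_dualAction (M : Subgroup G) [M.Normal] (hM : IsMulCommutative M) {x : G}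
    (e : dualAction M x = 1) : (MulAut.conjNormal x : MulAut M) = 1 := by
  have h : ((MulAut.conjNormal x : MulAut M))⁻¹ = 1 := by
    refine MulEquiv.ext fun m => ?_
    by_contra hne
    obtain ⟨l, hl⟩ := exists_linChar_ne_one (G := M) (g := ((MulAut.conjNormal x : MulAut M))⁻¹ m * m⁻¹)
      (by rw [commutator_eq_bot_of_comm M hM, Subgroup.mem_bot, mul_inv_eq_one]; exact hne)
    refine hl ?_
    rw [map_mul, map_inv, mul_inv_eq_one]
    exact DFunLike.congr_fun (DFunLike.congr_fun e l) m
  exact inv_eq_one.mp h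

theorem isPGroup_map_dualAction (M : Subgroup G) [M.Normal] (hM : IsMulCommutative M) :
    IsPGroup p (((pCore p (G ⧸ M)).comap (QuotientGroup.mk' M)).map (dualAction M)) := by
  intro ⟨y, hy⟩
  obtain ⟨l, hl, rfl⟩ := hy
  obtain ⟨j, hj⟩ := isPGroup_map_conjNormal (p := p) M hM ⟨_, ⟨l, hl, rfl⟩⟩
  have hj' : (MulAut.conjNormal l : MulAut M) ^ p ^ j = 1 := congrArg Subtype.val hj
  refine ⟨j, Subtype.ext ?_⟩
  show (dualAction M l) ^ p ^ j = 1
  rw [← map_pow]
  refine MulEquiv.ext fun μ => MonoidHom.ext fun m => ?_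
  show μ ((MulAut.conjNormal (l ^ p ^ j) : MulAut M)⁻¹ m) = μ m
  rw [map_pow, hj', inv_one, MulAut.one_apply]

omit hp in
/-- A linear character of `M` fixed by no conjugate of the power `x` of `g` gives a zero at `g`. -/
theorem exists_zero_of_moved (M : Subgroup G) [M.Normal] {g x : G} (hxg : x ∈ Subgroup.zpowers g)
    (l : M →* ℂˣ) (hl : ∀ y : G, dualAction M (y * x * y⁻¹) l ≠ l) :
    ∃ χ : IrrCharacter G, (χ : G → ℂ) g = 0 := by
  classical
  haveI := Fintype.ofFinite G
  haveI := Fintype.ofFinite M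
  set θ : IrrCharacter M := linChar l with hθ
  set T : Subgroup G := inertia M (θ : M → ℂ) with hT
  haveI := Fintype.ofFinite T
  have hne : indFun M (θ : M → ℂ) ≠ 0 := fun e => by
    have h := congrFun e 1
    rw [indFun_one_apply, hθ] at h
    simp [Subgroup.index_ne_zero_of_finite] at h
  obtain ⟨χ, hχ⟩ := exists_mult_ne_zero (isCharacter_indFun M (isCharacter_coe θ)) hne
  rw [mult_indFun_irr] at hχ
  obtain ⟨ψ, -, hψ⟩ := exists_indFun_eq hT (le_inertia (isClassFunction_coe θ)) χ hχ
  refine ⟨χ, ?_⟩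
  rw [← hψ]
  refine indFun_eq_zero_of_forall _ fun y hy => hl y⁻¹ ?_
  obtain ⟨i, hi⟩ := hxg
  have hxT : y⁻¹ * x * y ∈ T := by
    have h := zpow_mem hy i
    rwa [show (y⁻¹ * g * y) ^ i = y⁻¹ * g ^ i * y by simpa using conj_zpow (a := y⁻¹) (b := g) (i := i),
      show g ^ i = x from hi] at h
  refine MonoidHom.ext fun m => Units.ext ?_
  have h2 : conjFun M (y⁻¹ * x * y) (θ : M → ℂ) m = (θ : M → ℂ) m := by
    rw [show conjFun M (y⁻¹ * x * y) (θ : M → ℂ) = (θ : M → ℂ) from hxT]
  rw [inv_inv]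
  exact h2

theorem finite_dual (M : Subgroup G) : Finite (M →* ℂˣ) := by
  haveI := Fintype.ofFinite M
  exact Nat.finite_of_card_ne_zero (by rw [card_monoidHom_units]; exact Subgroup.index_ne_zero_of_finite)

omit [Finite G] in
theorem dual_pow_eq_one (M : Subgroup G) {q : ℕ} (hMq : ∀ x ∈ M, x ^ q = 1) (l : M →* ℂˣ) : l ^ q = 1 :=
  MonoidHom.ext fun m => by
    rw [MonoidHom.pow_apply, ← map_pow, show m ^ q = 1 from Subtype.ext (hMq m m.2), map_one, MonoidHom.one_apply]

theorem exists_zero_step (M : Subgroup G) [M.Normal] {q : ℕ} [Fact q.Prime] (hM : IsMulCommutative M)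
    (hMq : ∀ x ∈ M, x ^ q = 1) (hp2 : p ≠ 2) (hpq : p ≠ q) {g x : G} (hxg : x ∈ Subgroup.zpowers g)
    (hx : ∃ j : ℕ, x ^ p ^ j = 1) (hxL : (x : G ⧸ M) ∈ pCore p (G ⧸ M)) (hnot : x ∉ pCore p G) :
    ∃ χ : IrrCharacter G, (χ : G → ℂ) g = 0 := by
  haveI := finite_dual M
  obtain ⟨l, hl⟩ := exists_moved_mulAut (p := p) (q := q) (C := M →* ℂˣ) (dual_pow_eq_one M hMq)
    hp2 hpq (dualAction M) _ (isPGroup_map_dualAction M hM) (a := x) hxL
    (fun e => conjNormal_ne_one M hx hxL hnot (conjNormal_eq_one_of_dualAction M hM e))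
  exact exists_zero_of_moved M hxg l hl

theorem exists_zero_aux (hp2 : p ≠ 2) (N : ℕ) : ∀ (G : Type u) [Group G] [Finite G], Nat.card G ≤ N →
    Group.IsSolvable G → ∀ g x : G, x ∈ Subgroup.zpowers g → (∃ j : ℕ, x ^ p ^ j = 1) → x ∉ pCore p G →
    ∃ χ : IrrCharacter G, (χ : G → ℂ) g = 0 := by
  induction N with
  | zero =>
    intro G _ _ hN
    have : 0 < Nat.card G := Nat.card_pos
    omega
  | succ N ih =>
    intro G _ _ hN hG g x hxg hx hnot
    haveI : Nontrivial G := by
      by_contra h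
      rw [not_nontrivial_iff_subsingleton] at h
      exact hnot (Subsingleton.elim 1 x ▸ one_mem _)
    haveI := hG
    obtain ⟨M, q, k, hMn, hM1, -, hMc, hq, -, hMcard, hMe⟩ :=
      CfsgLib.Solvable.exists_minimal_normal_of_solvable (G := G)
    haveI := hMn
    haveI := Fact.mk hq
    by_cases hxL : (x : G ⧸ M) ∈ pCore p (G ⧸ M)
    · have hpq : p ≠ q := fun e => hnot (mem_pCore_of_quotient M (IsPGroup.of_card (n := k) (e ▸ hMcard)) hxL)
      exact exists_zero_step M hMc hMe hp2 hpq hxg hx hxL hnot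
    · have hlt : Nat.card (G ⧸ M) ≤ N := by
        have := CfsgLib.Solvable.card_quotient_lt M hM1
        omega
      obtain ⟨i, hi⟩ := hxg
      obtain ⟨j, hj⟩ := hx
      obtain ⟨χ, hχ⟩ := ih (G ⧸ M) hlt inferInstance g x ⟨i, congrArg (QuotientGroup.mk' M) hi |> fun h => by
        simpa using h⟩ ⟨j, by rw [← QuotientGroup.mk_pow, hj]; rfl⟩ hxL
      exact ⟨inflate M χ, by rw [inflate_apply]; exact hχ⟩

/-- For `p` odd, an element of a solvable group with a `p`-power outside `O_p(G)` is a vanishing element. -/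
theorem exists_zero (hp2 : p ≠ 2) (hG : Group.IsSolvable G) {g x : G} (hxg : x ∈ Subgroup.zpowers g)
    (hx : ∃ j : ℕ, x ^ p ^ j = 1) (hnot : x ∉ pCore p G) : ∃ χ : IrrCharacter G, (χ : G → ℂ) g = 0 :=
  exists_zero_aux hp2 (Nat.card G) G le_rfl hG g x hxg hx hnot

end CfsgLib.MovedVector
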